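import Groth.Agent.Surf.K462.Deg
import Groth.Agent.Sga67.LocBasis
import Groth.Agent.Fga.DimCut

/-!
# Submodules of free modules have negative degree unless they have sections

`deg_neg`: `X` integral proper regular surface, `F` finite locally free with `H^0(F) = 0` embedded in a free module,
`G ⊆ F` coherent and nonzero: then `deg G < 0`.
-/

set_option autoImplicit false
universe u
open CategoryTheory CategoryTheory.Limits AlgebraicGeometry TopologicalSpace Opposite

namespace K462.SubFree

open Groth.Agent Groth.Agent.Fga Groth.Agent.CycB.StalkExact K848.Hull K848.Hartogs K462.Deg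
open Groth.Agent.Sga67.LocBasis

/-- Among jointly injective functionals one can choose `dim V` of them which are jointly injective. -/
theorem exists_functionals {K V W : Type*} [Field K] [AddCommGroup V] [Module K V] [Module.Finite K V]
    [AddCommGroup W] [Module K W] (hW : Module.finrank K W = 1) {e : ℕ} (f : Fin e → (V →ₗ[K] W))
    (hf : ∀ v, (∀ i, f i v = 0) → v = 0) :
    ∃ (r : ℕ) (σ : Fin r → Fin e), r = Module.finrank K V ∧ ∀ v, (∀ j, f (σ j) v = 0) → v = 0 := by
  have : Module.Finite K W := Module.finite_of_finrank_pos (by rw [hW]; exact Nat.zero_lt_one)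
  obtain ⟨φ⟩ : Nonempty (W ≃ₗ[K] K) :=
    FiniteDimensional.nonempty_linearEquiv_of_finrank_eq (by rw [hW, Module.finrank_self])
  let s : Set (Module.Dual K V) := Set.range (fun i => φ.toLinearMap ∘ₗ f i)
  obtain ⟨g, hg1, hg2, -⟩ := Submodule.exists_fun_fin_finrank_span_eq K s
  choose σ hσ using hg1
  have hspan : Submodule.span K s = ⊤ := by
    have h1 : (Submodule.span K s).dualCoannihilator = ⊥ := by
      rw [eq_bot_iff]
      intro v hv
      rw [Submodule.mem_dualCoannihilator] at hv
      refine hf v fun i => ?_
      have := hv _ (Submodule.subset_span ⟨i, rfl⟩)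
      simpa using this
    have h2 := Subspace.dualCoannihilator_dualAnnihilator_eq (K := K) (V := V) (W := Submodule.span K s)
    rw [h1, Submodule.dualAnnihilator_bot] at h2
    exact h2.symm
  refine ⟨Module.finrank K (Submodule.span K s), σ, ?_, fun v hv => ?_⟩
  · rw [hspan, finrank_top, Subspace.dual_finrank_eq]
  · rw [← Module.forall_dual_apply_eq_zero_iff K]
    intro ψ
    have hψ : ψ ∈ Submodule.span K (Set.range g) := by rw [hg2, hspan]; trivial
    refine Submodule.span_induction (p := fun ψ _ => ψ v = 0) ?_ ?_ ?_ ?_ hψ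
    · rintro _ ⟨j, rfl⟩
      rw [← hσ j]
      change φ (f (σ j) v) = 0
      rw [hv j, map_zero]
    · rfl
    · intro a b _ _ ha hb
      rw [LinearMap.add_apply, ha, hb, add_zero]
    · intro c a _ ha
      rw [LinearMap.smul_apply, ha, smul_zero]

variable {X : Scheme.{u}}

/-- The map to a free module with given components. -/
noncomputable def toFree {G : X.Modules} {r : ℕ} (g : Fin r → (G ⟶ Coh.structureModule X)) :
    G ⟶ FlatMod.freeMod X r :=
  ∑ i, g i ≫ Sigma.ι (fun _ : Fin r => Coh.structureModule X) i

theorem toFree_proj {G : X.Modules} {r : ℕ} (g : Fin r → (G ⟶ Coh.structureModule X)) (j : Fin r) :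
    toFree g ≫ freeProj X r j = g j := by
  unfold toFree
  rw [Preadditive.sum_comp, Finset.sum_eq_single j]
  · rw [Category.assoc, ι_freeProj, if_pos rfl, Category.comp_id]
  · intro i _ hi
    rw [Category.assoc, ι_freeProj, if_neg hi, comp_zero]
  · simp

/-- Components of a map to a free module. -/
theorem eq_toFree {G : X.Modules} {r : ℕ} (f : G ⟶ FlatMod.freeMod X r) :
    f = toFree (fun i => f ≫ freeProj X r i) := by
  unfold toFree
  conv_lhs => rw [← Category.comp_id f, ← sum_freeProj_ι, Preadditive.comp_sum]
  simp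

theorem stalkLin_add {G H : X.Modules} (f g : G ⟶ H) (x : X) (m : G.presheaf.stalk x) :
    stalkLin (f + g) x m = stalkLin f x m + stalkLin g x m := by
  obtain ⟨V, hV, m, rfl⟩ := G.presheaf.exists_germ_eq m
  rw [stalkLin_germ, stalkLin_germ, stalkLin_germ, ← map_add]
  rfl

theorem stalkLin_zero {G H : X.Modules} (x : X) (m : G.presheaf.stalk x) :
    stalkLin (0 : G ⟶ H) x m = 0 := by
  have := stalkLin_add (0 : G ⟶ H) 0 x m
  rw [add_zero] at this
  exact left_eq_add.mp this

theorem stalkLin_sum {G H : X.Modules} {ι : Type*} (s : Finset ι) (f : ι → (G ⟶ H)) (x : X)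
    (m : G.presheaf.stalk x) : stalkLin (∑ i ∈ s, f i) x m = ∑ i ∈ s, stalkLin (f i) x m := by
  classical
  induction s using Finset.induction_on with
  | empty => rw [Finset.sum_empty, Finset.sum_empty, stalkLin_zero]
  | insert a s ha ih => rw [Finset.sum_insert ha, Finset.sum_insert ha, stalkLin_add, ih]

theorem stalkLin_comp_apply {G H K : X.Modules} (f : G ⟶ H) (g : H ⟶ K) (x : X) (m : G.presheaf.stalk x) :
    stalkLin (f ≫ g) x m = stalkLin g x (stalkLin f x m) := by
  rw [stalkLin_comp]
  rfl

/-- A map to a free module kills a germ if and only if its components do. -/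
theorem stalkLin_toFree_eq_zero {G : X.Modules} {r : ℕ} (g : Fin r → (G ⟶ Coh.structureModule X)) (x : X)
    (m : G.presheaf.stalk x) : stalkLin (toFree g) x m = 0 ↔ ∀ j, stalkLin (g j) x m = 0 := by
  constructor
  · intro h j
    rw [← toFree_proj g j, stalkLin_comp_apply, h, map_zero]
  · intro h
    unfold toFree
    rw [stalkLin_sum]
    refine Finset.sum_eq_zero fun j _ => ?_
    rw [stalkLin_comp_apply, h j, map_zero]

theorem isTorsionFree_of_isFinLocFree [IsIntegral X] {F : X.Modules} (hF : Coh.IsQCoh F)
    (hf : FlatMod.IsFinLocFree F) : TorSh.IsTorsionFree F := by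
  intro x
  obtain ⟨h1, h2⟩ := Groth.Agent.Divis.StalkMod.finite_free_stalk hF hf x
  infer_instance

/-- A torsion-free coherent module embedded in a free module embeds generically isomorphically in a free module. -/
theorem exists_generic_iso [IsIntegral X] [IsLocallyNoetherian X] {G : X.Modules} (hG : Coh.IsCoh G)
    {e : ℕ} (f : G ⟶ FlatMod.freeMod X e) [Mono f] :
    ∃ (r : ℕ) (p : G ⟶ FlatMod.freeMod X r), r = rk G ∧ Mono p := by
  have hfin : Module.Finite X.functionField (G.presheaf.stalk (genericPoint X)) :=
    Groth.Agent.Divis.StalkMod.finite_stalk hG _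
  have htf : TorSh.IsTorsionFree G := by
    exact K848.TF.isTorsionFree_of_mono f (isTorsionFree_of_isFinLocFree (isCoh_freeMod e).1
      (Groth.Agent.Dcoh.FinLocFree.isFinLocFree_freeMod X e))
  obtain ⟨r, σ, hr, hσ⟩ := exists_functionals (K := X.functionField)
    (V := G.presheaf.stalk (genericPoint X)) (W := (Coh.structureModule X).presheaf.stalk (genericPoint X))
    rk_unit (fun i => stalkLin (f ≫ freeProj X e i) (genericPoint X)) (by
      intro v hv
      have h1 : stalkLin f (genericPoint X) v = 0 := by
        rw [eq_toFree f, stalkLin_toFree_eq_zero]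
        exact hv
      exact (map_eq_zero_iff _ (stalkLin_injective f (genericPoint X))).mp h1)
  refine ⟨r, toFree (fun j => f ≫ freeProj X e (σ j)), hr, ?_⟩
  refine K848.TF.mono_of_generic hG.1 htf _ ?_
  rw [injective_iff_map_eq_zero]
  intro v hv
  rw [stalkLin_toFree_eq_zero] at hv
  exact hσ v hv

/-- Points of a closed set of dimension `< 1` are closed. -/
theorem isClosed_point {T : Type*} [TopologicalSpace T] [T0Space T] {A : Set T} (hA : IsClosed A)
    (hd : topologicalKrullDim A < ((1 : ℕ) : WithBot ℕ∞)) {x : T} (hx : x ∈ A) : IsClosed ({x} : Set T) := by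
  have hsub : closure {x} ⊆ A := closure_minimal (Set.singleton_subset_iff.mpr hx) hA
  have hle : topologicalKrullDim (closure {x} : Set T) < ((0 + 1 : ℕ) : WithBot ℕ∞) :=
    lt_of_le_of_lt (DimLt.topologicalKrullDim_mono hsub) hd
  have key : closure {x} = ({x} : Set T) := by
    refine Set.Subset.antisymm (fun y hy => ?_) subset_closure
    by_contra hne
    have hys : closure {y} ⊆ closure {x} := closure_minimal (Set.singleton_subset_iff.mpr hy) isClosed_closure
    have hne' : closure {y} ≠ closure {x} := by
      intro h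
      apply hne
      have : Inseparable y x := by
        rw [inseparable_iff_closure_eq]
        exact h
      exact this.eq
    have h1 := DimLt.topologicalKrullDim_lt (d := 0) isIrreducible_singleton.closure isClosed_closure hys hne' hle
    have h0 : ((0 : ℕ) : WithBot ℕ∞) ≤ topologicalKrullDim (closure {y} : Set T) := by
      have : Nonempty (closure {y} : Set T) := ⟨⟨y, subset_closure rfl⟩⟩
      have : Nonempty (IrreducibleCloseds (closure {y} : Set T)) :=
        ⟨⟨closure {this.some}, isIrreducible_singleton.closure, isClosed_closure⟩⟩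
      exact_mod_cast Order.krullDim_nonneg
    exact absurd (lt_of_le_of_lt h0 h1) (lt_irrefl _)
  rw [← key]
  exact isClosed_closure

section Main

variable (k : Type u) [Field k] [X.Over (Spec (CommRingCat.of k))] [IsProper (X ↘ Spec (CommRingCat.of k))]
  [IsIntegral X]

/-- A submodule of a free module, contained in a finite locally free module without sections, has negative degree. -/
theorem deg_neg (hdim : topologicalKrullDim X = 2) (hn : ∀ x : X, IsIntegrallyClosed (X.presheaf.stalk x))
    {H H' : X.Modules} (hH : CohB1.IsAmple H)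
    (hHH' : Nonempty (CohB1.tensorMod H H' ≅ Coh.structureModule X)) (hH' : PicF.IsInvertible H')
    {F G : X.Modules} (hF : Coh.IsCoh F) (hFf : FlatMod.IsFinLocFree F)
    (h0 : ∀ s : Coh.structureModule X ⟶ F, s = 0) (hG : Coh.IsCoh G) (j : G ⟶ F) [Mono j] {e : ℕ}
    (f : G ⟶ FlatMod.freeMod X e) [Mono f] (hne : ¬ IsZero G) : deg k H' G < 0 := by
  have := SnapperTwist.isNoetherian_of_proper k X
  have hd : topologicalKrullDim X ≤ (2 : ℕ) := hdim.le
  obtain ⟨r, p, hr, hp⟩ := exists_generic_iso hG f
  have hfree : Coh.IsCoh (FlatMod.freeMod X r) := isCoh_freeMod r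
  have htf : TorSh.IsTorsionFree G := K848.TF.isTorsionFree_of_mono f
    (isTorsionFree_of_isFinLocFree (isCoh_freeMod e).1 (Groth.Agent.Dcoh.FinLocFree.isFinLocFree_freeMod X e))
  have hT : Coh.IsCoh (cokernel p) := Sga67.CohBasic.isCoh_cokernel p hG.1 hfree
  have hS : (ShortComplex.mk p (cokernel.π p) (cokernel.condition p)).ShortExact :=
    { exact := ShortComplex.exact_cokernel p
      mono_f := hp
      epi_g := inferInstance }
  have hrk := isAdd_rk (X := X) _ hS hG hfree hT
  have hrk2 := chi_freeMod (isAdd_rk (X := X)) r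
  dsimp only at hrk hrk2
  rw [rk_unit] at hrk2
  have hrT : rk (cokernel p) = 0 := by
    have : (r : ℤ) = rk G := by exact_mod_cast hr
    have h1 : (rk (cokernel p) : ℤ) = 0 := by
      rw [hrk2] at hrk
      push_cast at hrk
      linarith
    exact_mod_cast h1
  have hη : genericPoint X ∉ CohB1.support (cokernel p) := by
    rw [CohqB.DevSupport.not_mem_support_iff]
    have hfin : Module.Finite X.functionField ((cokernel p).presheaf.stalk (genericPoint X)) :=
      Groth.Agent.Divis.StalkMod.finite_stalk hT _
    exact Module.finrank_zero_iff.mp hrT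
  have hdeg := isAdd_deg k hd hH' _ hS hG hfree hT
  dsimp only at hdeg
  rw [deg_freeMod k hd hH'] at hdeg
  obtain ⟨hT0, hT1⟩ := deg_torsion_nonneg k hd hH hHH' hH' hT hη
  by_contra hcon
  have hT2 : deg k H' (cokernel p) = 0 := by
    push Not at hcon
    linarith
  have hdimT := hT1 hT2
  have hcl : IsClosed (CohB1.support (cokernel p)) := Groth.Agent.S0020.result X _ hT.2
  let U : X.Opens := ⟨(CohB1.support (cokernel p))ᶜ, hcl.isOpen_compl⟩
  have hU : Big U := by
    intro x hx
    have hx' : x ∈ CohB1.support (cokernel p) := not_not.mp hx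
    have hxc := isClosed_point hcl hdimT hx'
    rw [Fga.DimCut.ringKrullDim_stalk_eq k X x hxc, hdim]
  have hiso : IsIso ((Scheme.Modules.restrictFunctor U.ι).map p) := by
    refine isIso_restrict_of_stalk p fun x hx => ⟨stalkLin_injective p x, ?_⟩
    exact (not_mem_support_cokernel_iff p x).1 hx
  have hr0 : 0 < r := by
    rw [hr]
    by_contra h
    have h1 : rk G = 0 := by omega
    apply hne
    refine K848.TF.isZero_of_generic hG.1 htf ?_
    rw [CohqB.DevSupport.not_mem_support_iff]
    have hfin : Module.Finite X.functionField (G.presheaf.stalk (genericPoint X)) :=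
      Groth.Agent.Divis.StalkMod.finite_stalk hG _
    exact Module.finrank_zero_iff.mp h1
  let R := Scheme.Modules.restrictFunctor U.ι
  let ι₀ : Coh.structureModule X ⟶ FlatMod.freeMod X r := Sigma.ι (fun _ : Fin r => Coh.structureModule X) ⟨0, hr0⟩
  obtain ⟨s, hs⟩ := exists_extend (F := Coh.structureModule X) hn hU hF hFf (R.map ι₀ ≫ inv (R.map p) ≫ R.map j)
  have h1 : R.map ι₀ ≫ inv (R.map p) ≫ R.map j = 0 := by
    rw [← hs, h0 s]
    exact Functor.map_zero _ _ _
  have hmj : Mono (R.map j) := inferInstanceAs (Mono ((Scheme.Modules.restrictFunctor U.ι).map j))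
  have h2 : R.map ι₀ = 0 := by
    rw [← Category.assoc] at h1
    have h3 := (Preadditive.mono_iff_cancel_zero (R.map j)).mp hmj _ _ h1
    have h4 : (R.map ι₀ ≫ inv (R.map p)) ≫ R.map p = 0 := by rw [h3, zero_comp]
    rwa [Category.assoc, IsIso.inv_hom_id, Category.comp_id] at h4
  have h3 : R.map (𝟙 (Coh.structureModule X)) = 0 := by
    have : 𝟙 (Coh.structureModule X) = ι₀ ≫ freeProj X r ⟨0, hr0⟩ := by
      rw [ι_freeProj, if_pos rfl]
    rw [this, R.map_comp, h2, zero_comp]
  have h5 : IsIso (R.map (0 : Coh.structureModule X ⟶ Coh.structureModule X)) := by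
    have h6 : R.map (0 : Coh.structureModule X ⟶ Coh.structureModule X) = 𝟙 _ := by
      rw [← R.map_id, h3]
      exact Functor.map_zero _ _ _
    rw [h6]
    infer_instance
  have h7 : Function.Bijective (stalkLin (0 : Coh.structureModule X ⟶ Coh.structureModule X) (genericPoint X)) :=
    stalkLin_bijective_of_restrict (U := U) 0 _ hU.genericPoint_mem
  have h8 : Subsingleton ((Coh.structureModule X).presheaf.stalk (genericPoint X)) := by
    refine ⟨fun a b => h7.1 ?_⟩
    rw [stalkLin_zero, stalkLin_zero]
  have h9 : rk (Coh.structureModule X) = 0 := Module.finrank_zero_of_subsingleton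
  rw [rk_unit] at h9
  exact one_ne_zero h9

end Main

end K462.SubFree
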