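import Groth.Agent.VarietyA.EulerLES
import Groth.Agent.Sga67.TensorOps
import Groth.Agent.Dcoh.FinLocFree
import Groth.Agent.Ega2.TensMon
import Groth.Agent.Ega2.QCohLocal

/-!
# Consequences of the long exact cohomology sequence
-/

set_option autoImplicit false
universe u
open CategoryTheory CategoryTheory.Limits AlgebraicGeometry TopologicalSpace Opposite

namespace K462.CohLES

open Groth.Agent Groth.Agent.VarietyA.EulerLES

variable {X : Scheme.{u}}

theorem subsingleton_of_iso {M N : X.Modules} (e : M ≅ N) (n : ℕ) [h : Subsingleton (Coh.HH X M n)] :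
    Subsingleton (Coh.HH X N n) := (equivΓ e n).symm.injective.subsingleton

theorem subsingleton_of_isZero {M : X.Modules} (hM : IsZero M) (n : ℕ) : Subsingleton (Coh.HH X M n) := by
  refine ⟨fun a b => ?_⟩
  have key : ∀ a : Coh.HH X M n, a = 0 := by
    intro a
    have h1 : mapΓ (𝟙 M) n a = a := by rw [mapΓ_id]; rfl
    rw [← h1, (IsZero.iff_id_eq_zero M).mp hM, mapΓ_zero]
    rfl
  rw [key a, key b]

theorem subsingleton_X₂ {S : ShortComplex X.Modules} (hS : S.ShortExact) (n : ℕ)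
    (h1 : Subsingleton (Coh.HH X S.X₁ n)) (h3 : Subsingleton (Coh.HH X S.X₃ n)) :
    Subsingleton (Coh.HH X S.X₂ n) := by
  refine ⟨fun a b => ?_⟩
  have key : ∀ a : Coh.HH X S.X₂ n, a = 0 := by
    intro a
    obtain ⟨y, hy⟩ := (exact₂ S hS n a).mp (@Subsingleton.elim _ h3 _ _)
    rw [← hy, @Subsingleton.elim _ h1 y 0, map_zero]
  rw [key a, key b]

theorem subsingleton_X₁ {S : ShortComplex X.Modules} (hS : S.ShortExact) (n : ℕ)
    (h3 : Function.Surjective (mapΓ S.g n)) (h2 : Subsingleton (Coh.HH X S.X₂ (n + 1))) :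
    Subsingleton (Coh.HH X S.X₁ (n + 1)) := by
  refine ⟨fun a b => ?_⟩
  have key : ∀ a : Coh.HH X S.X₁ (n + 1), a = 0 := by
    intro a
    obtain ⟨y, hy⟩ := (exact₁ S hS n (n + 1) rfl a).mp (@Subsingleton.elim _ h2 _ _)
    obtain ⟨z, hz⟩ := h3 y
    rw [← hy]
    exact (exact₃ S hS n (n + 1) rfl y).mpr ⟨z, hz⟩
  rw [key a, key b]

theorem subsingleton_zero_X₁ {S : ShortComplex X.Modules} (hS : S.ShortExact)
    (h3 : Function.Injective (mapΓ S.g 0)) : Subsingleton (Coh.HH X S.X₁ 0) := by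
  refine ⟨fun a b => ?_⟩
  have key : ∀ a : Coh.HH X S.X₁ 0, a = 0 := by
    intro a
    apply injective₀ S hS
    rw [map_zero]
    apply h3
    rw [map_zero]
    exact (exact₂ S hS 0 _).mpr ⟨a, rfl⟩
  rw [key a, key b]

/-- The connecting map is an isomorphism when the middle term has no cohomology. -/
theorem finrank_delta (k : Type u) [Field k] [X.Over (Spec (CommRingCat.of k))] {S : ShortComplex X.Modules}
    (hS : S.ShortExact) (n : ℕ) (h0 : Subsingleton (Coh.HH X S.X₂ n)) (h1 : Subsingleton (Coh.HH X S.X₂ (n + 1))) :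
    Module.finrank k (Coh.HH X S.X₃ n) = Module.finrank k (Coh.HH X S.X₁ (n + 1)) := by
  have hinj : Function.Injective (deltaA k S hS n (n + 1) rfl) := by
    rw [injective_iff_map_eq_zero]
    intro x hx
    obtain ⟨y, hy⟩ := (exact₃ S hS n (n + 1) rfl x).mp hx
    rw [← hy, @Subsingleton.elim _ h0 y 0, map_zero]
  have hsurj : Function.Surjective (deltaA k S hS n (n + 1) rfl) := by
    intro x
    exact (exact₁ S hS n (n + 1) rfl x).mp (@Subsingleton.elim _ h1 _ _)
  exact (LinearEquiv.ofBijective _ ⟨hinj, hsurj⟩).finrank_eq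

/-- A property of modules closed under extensions passes from `V` to `V ⊗ O^n`. -/
theorem tensor_free {V : X.Modules} (hV : FlatMod.IsFinLocFree V) (P : X.Modules → Prop)
    (hz : ∀ M : X.Modules, IsZero M → P M)
    (hiso : ∀ M N : X.Modules, Nonempty (M ≅ N) → P M → P N)
    (hext : ∀ S : ShortComplex X.Modules, S.ShortExact → P S.X₁ → P S.X₃ → P S.X₂)
    (h1 : P V) (n : ℕ) : P (CohB1.tensorMod V (FlatMod.freeMod X n)) := by
  induction n with
  | zero =>
    refine hz _ ?_
    have h := Groth.Agent.Dcoh.FinLocFree.isZero_freeMod_zero X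
    exact ((DCoh.tensorBi (X := X)).obj V).map_isZero h
  | succ n ih =>
    obtain ⟨e⟩ := Groth.Agent.Dcoh.FinLocFree.nonempty_biprod_freeMod_iso X n 1
    have hS : (ShortComplex.mk (biprod.inl : FlatMod.freeMod X n ⟶ FlatMod.freeMod X n ⊞ FlatMod.freeMod X 1)
        (biprod.snd : FlatMod.freeMod X n ⊞ FlatMod.freeMod X 1 ⟶ FlatMod.freeMod X 1) (by simp)).ShortExact :=
      (ShortComplex.Splitting.mk biprod.fst biprod.inr (by simp) (by simp) (by simp)).shortExact
    let e1 : CohB1.tensorMod V (FlatMod.freeMod X n ⊞ FlatMod.freeMod X 1) ≅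
        CohB1.tensorMod V (FlatMod.freeMod X (n + 1)) := Ega2.Tens.mapTIso (Iso.refl V) e
    let e2 : V ≅ CohB1.tensorMod V (FlatMod.freeMod X 1) :=
      (Ega2.Tens.runit V).symm ≪≫ Ega2.Tens.mapTIso (Iso.refl V) (Ega2.QCohLocal.freeModOneIso X)
    have h3 : P (CohB1.tensorMod V (FlatMod.freeMod X 1)) := hiso _ _ ⟨e2⟩ h1
    have h4 := hext _ (Sga67.TensorOps.tensor_shortExact hV hS) ih h3
    exact hiso _ _ ⟨e1⟩ h4

theorem subsingleton_tensor_free {V : X.Modules} (hV : FlatMod.IsFinLocFree V) (p : ℕ)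
    (h : Subsingleton (Coh.HH X V p)) (n : ℕ) :
    Subsingleton (Coh.HH X (CohB1.tensorMod V (FlatMod.freeMod X n)) p) :=
  tensor_free hV (fun M => Subsingleton (Coh.HH X M p)) (fun _ hM => subsingleton_of_isZero hM p)
    (fun _ _ ⟨e⟩ h => @subsingleton_of_iso _ _ _ e p h) (fun _ hS h1 h3 => subsingleton_X₂ hS p h1 h3) h n

end K462.CohLES
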