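import Groth.Agent.VarietyB.RestrSeq
import Groth.Agent.VarietyA.EulerLES
import Groth.Agent.VarietyA.GlobalSections
import Groth.Agent.CurvesB.HZero
import Groth.Agent.CurvesC.PointScheme
import Groth.Agent.Ega3B.ProjProper
import Mathlib.AlgebraicGeometry.Morphisms.Proper
import Mathlib.RingTheory.Finiteness.Basic

/-!
# `H^1` of an ideal sheaf and the connectedness of the closed subscheme
-/

set_option autoImplicit false
universe u
open CategoryTheory CategoryTheory.Limits AlgebraicGeometry TopologicalSpace Opposite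

namespace K462.H1Ideal

open Groth.Agent Groth.Agent.CurvesB Groth.Agent.VarietyA.EulerLES

variable {X : Scheme.{u}}

/-- The map `H^0(X, O_X) → H^0(X, O_X/D)` is restriction of functions. -/
theorem equivAdd_mapΓ_toSubscheme (D : X.IdealSheafData) (x : Coh.HH X (Coh.structureModule X) 0) :
    (HZero.equivAdd (ClSub.quotMod D) (mapΓ (ClSub.toSubscheme D) 0 x) : Γ(D.subscheme, ⊤)) =
      D.subschemeι.appTop.hom (HZero.equivO X x) :=
  HZero.equivAdd_map (ClSub.toSubscheme D) x

/-- If `H^1(X, I_D) = 0`, every function on `D` extends to `X`. -/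
theorem appTop_surjective_of_h1 (D : X.IdealSheafData) (h : Subsingleton (Coh.HH X (ClSub.idealMod D) 1)) :
    Function.Surjective D.subschemeι.appTop.hom := by
  intro s
  obtain ⟨x, hx⟩ := (exact₃ (VarietyB.RestrSeq.idealSeq D) (VarietyB.RestrSeq.idealSeq_shortExact D) 0 1 rfl
    ((HZero.equivAdd (ClSub.quotMod D)).symm s)).mp
    (@Subsingleton.elim (Coh.HH X (ClSub.idealMod D) 1) h _ _)
  refine ⟨HZero.equivO X x, ?_⟩
  rw [← equivAdd_mapΓ_toSubscheme]
  have h2 : HZero.equivAdd (ClSub.quotMod D) (mapΓ (ClSub.toSubscheme D) 0 x) =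
      HZero.equivAdd (ClSub.quotMod D) ((HZero.equivAdd (ClSub.quotMod D)).symm s) := congrArg _ hx
  rw [h2, AddEquiv.apply_symm_apply]

/-- If every function on `D` extends to `X` and `H^1(X, O_X) = 0`, then `H^1(X, I_D) = 0`. -/
theorem h1_of_appTop_surjective (D : X.IdealSheafData)
    (hs : Function.Surjective D.subschemeι.appTop.hom)
    (h : Subsingleton (Coh.HH X (Coh.structureModule X) 1)) : Subsingleton (Coh.HH X (ClSub.idealMod D) 1) := by
  refine ⟨fun a b => ?_⟩
  have key : ∀ a : Coh.HH X (ClSub.idealMod D) 1, a = 0 := by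
    intro a
    obtain ⟨y, hy⟩ := (exact₁ (VarietyB.RestrSeq.idealSeq D) (VarietyB.RestrSeq.idealSeq_shortExact D) 0 1 rfl a).mp
      (@Subsingleton.elim (Coh.HH X (Coh.structureModule X) 1) h _ _)
    obtain ⟨s, hs⟩ := hs (HZero.equivAdd (ClSub.quotMod D) y)
    have h1 : mapΓ (ClSub.toSubscheme D) 0 ((HZero.equivO X).symm s) = y := by
      apply (HZero.equivAdd (ClSub.quotMod D)).injective
      refine (equivAdd_mapΓ_toSubscheme D _).trans ?_
      rw [AddEquiv.apply_symm_apply]
      exact hs
    rw [← hy]
    exact (exact₃ (VarietyB.RestrSeq.idealSeq D) (VarietyB.RestrSeq.idealSeq_shortExact D) 0 1 rfl y).mpr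
      ⟨_, h1⟩
  rw [key a, key b]

theorem nontrivial_top (Z : Scheme.{u}) [Nonempty Z] : Nontrivial Γ(Z, ⊤) := by
  have : Nonempty (⊤ : Z.Opens) := ⟨⟨Classical.arbitrary Z, trivial⟩⟩
  exact Scheme.component_nontrivial Z ⊤

/-- A nonempty closed subscheme with `H^1(X, I_D) = 0` of an integral scheme proper over a field is connected. -/
theorem connectedSpace_of_h1 (k : Type u) [Field k] [IsIntegral X] (f : X ⟶ Spec (CommRingCat.of k)) [IsProper f]
    (D : X.IdealSheafData) (hne : Nonempty ↥D.subscheme)
    (h : Subsingleton (Coh.HH X (ClSub.idealMod D) 1)) : ConnectedSpace ↥D.subscheme := by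
  have hf : IsField Γ(X, ⊤) := isField_of_universallyClosed (K := k) f
  have hs := appTop_surjective_of_h1 D h
  have hnt : Nontrivial Γ(D.subscheme, ⊤) := nontrivial_top D.subscheme
  have hinj : Function.Injective D.subschemeι.appTop.hom := by
    let _ := hf.toField
    exact RingHom.injective (D.subschemeι.appTop.hom : Γ(X, ⊤) →+* Γ(D.subscheme, ⊤))
  refine CurvesC.PointScheme.connectedSpace_of_idem fun e he => ?_
  obtain ⟨t, rfl⟩ := hs e
  have ht : IsIdempotentElem t := hinj (by rw [map_mul]; exact he)
  let _ := hf.toField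
  rcases (IsIdempotentElem.iff_eq_zero_or_one (p := t)).mp ht with h | h
  · left; rw [h, map_zero]
  · right; rw [h, map_one]

/-- On a connected reduced scheme proper over an algebraically closed field all functions are constant. -/
theorem surjective_gl (k : Type u) [Field k] [IsAlgClosed k] {Z : Scheme.{u}} (g : Z ⟶ Spec (CommRingCat.of k))
    [IsProper g] [IsReduced Z] [ConnectedSpace Z] :
    Function.Surjective (VarietyA.GlobalSections.gl g).hom := by
  let _ : Algebra k Γ(Z, ⊤) := (VarietyA.GlobalSections.gl g).hom.toAlgebra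
  have hint : g.appTop.hom.IsIntegral := isIntegral_appTop_of_universallyClosed g
  have : Nontrivial Γ(Z, ⊤) := nontrivial_top Z
  have : Algebra.IsIntegral k Γ(Z, ⊤) := by
    refine ⟨fun x => ?_⟩
    have h := hint x
    obtain ⟨p, hp, hx⟩ := h
    refine ⟨p.map (Scheme.ΓSpecIso (CommRingCat.of k)).hom.hom, hp.map _, ?_⟩
    rw [Polynomial.eval₂_map]
    convert hx using 2
    change ((VarietyA.GlobalSections.gl g).hom).comp (Scheme.ΓSpecIso (CommRingCat.of k)).hom.hom = _
    unfold VarietyA.GlobalSections.gl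
    rw [← CommRingCat.hom_comp, Iso.hom_inv_id_assoc]
  exact (VarietyA.GlobalSections.algebraMap_bijective_of_connected
    (VarietyA.GlobalSections.idem_of_connected Z)).2

/-- A connected reduced closed subscheme of a scheme proper over an algebraically closed field: functions extend. -/
theorem appTop_surjective_of_connected (k : Type u) [Field k] [IsAlgClosed k] (f : X ⟶ Spec (CommRingCat.of k))
    [IsProper f] (D : X.IdealSheafData) [ConnectedSpace ↥D.subscheme] [IsReduced D.subscheme] :
    Function.Surjective D.subschemeι.appTop.hom := by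
  intro s
  obtain ⟨t, ht⟩ := surjective_gl k (D.subschemeι ≫ f) s
  refine ⟨(VarietyA.GlobalSections.gl f).hom t, ?_⟩
  rw [← ht]
  unfold VarietyA.GlobalSections.gl
  rw [Scheme.Hom.comp_appTop, ← CommRingCat.comp_apply, Category.assoc]

end K462.H1Ideal
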