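import Groth.Agent.Surf.K462.HomTens
import Groth.Agent.Dcoh.MonClosed
import Groth.Agent.SDiv.K476.HomSh4

/-!
# Formal isomorphisms for the sheaf Hom

* `assocIso` : `Hom(A ⊗ B, C) ≅ Hom(B, Hom(A, C))`
* `invIso`   : `Hom(J, C) ≅ I ⊗ C` if `J ⊗ I ≅ O`
* `dualTensor` : `(J ⊗ F)^∨ ≅ F^∨ ⊗ I`, `dualDualTensor` : `(F^∨ ⊗ F)^∨ ≅ Hom(F, F)` for `F` finite locally free.
-/

set_option autoImplicit false
universe u
open CategoryTheory CategoryTheory.Limits AlgebraicGeometry TopologicalSpace Opposite MonoidalCategory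

noncomputable section

namespace K462.HomMon

open Groth.Agent
open scoped Groth.Agent.Dcoh.MonCat
open Groth.Agent.Dcoh.MonClosed (homFunctor tensorHomAdj)
open Groth.Agent.CohqB.HomSheaf (homSheaf homPre homMap)

variable {X : Scheme.{u}}

/-- `Hom(A ⊗ B, -) ≅ Hom(B, Hom(A, -))`. -/
def assocF (A B : X.Modules) : homFunctor (A ⊗ B) ≅ homFunctor A ⋙ homFunctor B :=
  Adjunction.rightAdjointUniq ((tensorHomAdj (A ⊗ B)).ofNatIsoLeft (tensorLeftTensor A B))
    ((tensorHomAdj B).comp (tensorHomAdj A))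

/-- `Hom(A ⊗ B, C) ≅ Hom(B, Hom(A, C))`. -/
def assocIso (A B C : X.Modules) : homSheaf (CohB1.tensorMod A B) C ≅ homSheaf B (homSheaf A C) :=
  (assocF A B).app C

/-- Tensoring with an invertible module is an equivalence. -/
def leftEquiv {J I : X.Modules} (h1 : I ⊗ J ≅ 𝟙_ X.Modules) (h2 : J ⊗ I ≅ 𝟙_ X.Modules) :
    X.Modules ≌ X.Modules :=
  CategoryTheory.Equivalence.mk (tensorLeft J) (tensorLeft I)
    ((leftUnitorNatIso X.Modules).symm ≪≫ (curriedTensor X.Modules).mapIso h1.symm ≪≫ tensorLeftTensor I J)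
    ((tensorLeftTensor J I).symm ≪≫ (curriedTensor X.Modules).mapIso h2 ≪≫ leftUnitorNatIso X.Modules)

theorem leftEquiv_functor {J I : X.Modules} (h1 : I ⊗ J ≅ 𝟙_ X.Modules) (h2 : J ⊗ I ≅ 𝟙_ X.Modules) :
    (leftEquiv h1 h2).functor = tensorLeft J := rfl

/-- The adjunction `J ⊗ - ⊣ I ⊗ -`. -/
def leftAdj {J I : X.Modules} (h1 : I ⊗ J ≅ 𝟙_ X.Modules) (h2 : J ⊗ I ≅ 𝟙_ X.Modules) :
    tensorLeft J ⊣ tensorLeft I :=
  (leftEquiv h1 h2).toAdjunction

/-- `Hom(J, C) ≅ I ⊗ C` if `J ⊗ I ≅ O`. -/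
def invIso {J I : X.Modules} (h : CohB1.tensorMod J I ≅ Coh.structureModule X) (C : X.Modules) :
    homSheaf J C ≅ CohB1.tensorMod I C :=
  (Adjunction.rightAdjointUniq (tensorHomAdj J)
    (leftAdj (X := X) (J := J) (I := I) ((β_ I J) ≪≫ h) h)).app C

/-- `Hom(O, C) ≅ C`. -/
def unitHomIso (C : X.Modules) : homSheaf (Coh.structureModule X) C ≅ C :=
  (Adjunction.rightAdjointUniq ((tensorHomAdj (𝟙_ X.Modules)).ofNatIsoLeft (leftUnitorNatIso X.Modules))
    Adjunction.id).app C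

/-- Functoriality in the first variable. -/
def isoLeft {A B : X.Modules} (e : A ≅ B) (C : X.Modules) : homSheaf A C ≅ homSheaf B C where
  hom := homPre e.inv C
  inv := homPre e.hom C
  hom_inv_id := by
    have h : homPre e.inv C ≫ homPre e.hom C = homPre (e.hom ≫ e.inv) C := by ext U s; rfl
    rw [h, e.hom_inv_id]
    ext U s
    rfl
  inv_hom_id := by
    have h : homPre e.hom C ≫ homPre e.inv C = homPre (e.inv ≫ e.hom) C := by ext U s; rfl
    rw [h, e.inv_hom_id]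
    ext U s
    rfl

/-- Functoriality in the second variable. -/
def isoRight (A : X.Modules) {C D : X.Modules} (e : C ≅ D) : homSheaf A C ≅ homSheaf A D :=
  (homFunctor A).mapIso e

/-- Functoriality of the tensor product. -/
def tensIso {A B C D : X.Modules} (e : A ≅ B) (e' : C ≅ D) : CohB1.tensorMod A C ≅ CohB1.tensorMod B D :=
  MonoidalCategory.tensorIso e e'

/-- `Hom(E, O) ⊗ N ≅ Hom(E, N)` for `E` finite locally free. -/
def kap {E : X.Modules} (hE : FlatMod.IsFinLocFree E) (N : X.Modules) :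
    CohB1.tensorMod (RefHull.dual E) N ≅ RefHull.homSh E N :=
  tensIso (HomCmp.cmpIso E (Coh.structureModule X)) (Iso.refl N) ≪≫ HomTens.kapIso hE N ≪≫
    (HomCmp.cmpIso E N).symm

/-- `J^∨ ≅ I` if `J ⊗ I ≅ O`. -/
def dualInv {J I : X.Modules} (h : CohB1.tensorMod J I ≅ Coh.structureModule X) : RefHull.dual J ≅ I :=
  HomCmp.cmpIso J (Coh.structureModule X) ≪≫ invIso h (Coh.structureModule X) ≪≫ ρ_ (show X.Modules from I)

/-- `(J ⊗ F)^∨ ≅ F^∨ ⊗ I` if `J ⊗ I ≅ O` and `F` is finite locally free. -/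
def dualTensor {J I F : X.Modules} (h : CohB1.tensorMod J I ≅ Coh.structureModule X)
    (hF : FlatMod.IsFinLocFree F) :
    RefHull.dual (CohB1.tensorMod J F) ≅ CohB1.tensorMod (RefHull.dual F) I :=
  HomCmp.cmpIso _ _ ≪≫ assocIso J F (Coh.structureModule X) ≪≫
    isoRight F ((HomCmp.cmpIso J (Coh.structureModule X)).symm ≪≫ dualInv h) ≪≫
    (HomCmp.cmpIso F I).symm ≪≫ (kap hF I).symm

/-- `O^∨ ≅ O`. -/
def dualUnit (X : Scheme.{u}) : RefHull.dual (Coh.structureModule X) ≅ Coh.structureModule X :=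
  HomCmp.cmpIso _ _ ≪≫ unitHomIso _

section Bidual

variable [IsLocallyNoetherian X]

theorem isIso_bidualMap {F : X.Modules} (hF : Coh.IsCoh F)
    (h : ∀ x : X, Module.Free (X.presheaf.stalk x) (F.presheaf.stalk x)) : IsIso (RefHull.bidualMap F) :=
  K476.HomSh4.isIso_of_stalk _ fun x => K476.HomSh4.bijective_stalkMapₗ_bidualMap_of_free hF x (h x)

end Bidual

/-- `(F^∨ ⊗ F)^∨ ≅ Hom(F, F)` if the biduality map of `F` is an isomorphism. -/
def dualDualTensor (F : X.Modules) (h : IsIso (RefHull.bidualMap F)) :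
    RefHull.dual (CohB1.tensorMod (RefHull.dual F) F) ≅ RefHull.homSh F F :=
  HomCmp.cmpIso _ _ ≪≫ assocIso (RefHull.dual F) F (Coh.structureModule X) ≪≫
    isoRight F ((HomCmp.cmpIso (RefHull.dual F) (Coh.structureModule X)).symm ≪≫ (asIso (RefHull.bidualMap F)).symm) ≪≫
    (HomCmp.cmpIso F F).symm

end K462.HomMon
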