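import Groth.Agent.Surf.K462.Deg
import Groth.Agent.Surf.K464.Comp
import Groth.Agent.Fga.IntegralSub
import Groth.Agent.S0019
import Groth.Agent.Fga.SnapperAbs
import Mathlib.RingTheory.SimpleModule.Rank

/-!
# Degrees on a surface whose Picard group is cyclic

`dvd_deg` : `X` smooth proper integral surface whose Picard group is generated by `a`; the degree of every coherent
module is divisible by `(a · H')`.
-/

set_option autoImplicit false
universe u
open CategoryTheory CategoryTheory.Limits AlgebraicGeometry TopologicalSpace Opposite

namespace K462.DivDeg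

open Groth.Agent Groth.Agent.Fga Groth.Agent.Grpsch.PicGrp K464.Base K464.Curves K848.Hull K462.Deg

theorem dim_closure_lt {X : Scheme.{u}} [IsIntegral X] {d : ℕ} (hdim : topologicalKrullDim X ≤ d) {y : X}
    (hy : y ≠ genericPoint X) : topologicalKrullDim (closure {y} : Set X) < (d : WithBot ℕ∞) := by
  have huniv : topologicalKrullDim (Set.univ : Set X) < ((d + 1 : ℕ) : WithBot ℕ∞) := by
    have h1 : topologicalKrullDim (Set.univ : Set X) ≤ topologicalKrullDim X :=
      Topology.IsInducing.subtypeVal.topologicalKrullDim_le
    refine lt_of_le_of_lt (h1.trans hdim) ?_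
    exact WithBot.coe_lt_coe.mpr (ENat.natCast_lt_natCast.mpr (Nat.lt_succ_self d))
  refine DimLt.topologicalKrullDim_lt (A := Set.univ) (irreducibleSpace_def X |>.mp inferInstance) isClosed_closure
    (Set.subset_univ _) (fun h => hy ?_) huniv
  have h1 : y ⤳ genericPoint X := by
    rw [specializes_iff_mem_closure, h]; trivial
  exact (h1.antisymm (genericPoint_specializes y)).eq

theorem isSimple_push {X Z : Scheme.{u}} (i : Z ⟶ X) [IsClosedImmersion i] [IsIntegral Z] :
    IsSimpleModule (X.presheaf.stalk (i (genericPoint Z)))
      (((Coh.push i).obj (Coh.structureModule Z)).presheaf.stalk (i (genericPoint Z))) := by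
  have : Nonempty (⊤ : Z.Opens) := ⟨⟨genericPoint Z, trivial⟩⟩
  exact CohqB.DevSimple.isSimpleModule_stalk_push i (Coh.structureModule Z) ⊤ ⟨Scheme.Modules.restrictUnitIso _⟩

/-- The degree of a module supported on a closed set of dimension zero. -/
theorem intNum_one_eq_zero (k : Type u) [Field k] (X : Scheme.{u}) [X.Over (Spec (CommRingCat.of k))]
    [IsProper (X ↘ Spec (CommRingCat.of k))] (hdim : topologicalKrullDim X ≤ (2 : ℕ)) {H' : X.Modules}
    (hH' : PicF.IsInvertible H') {T : X.Modules} (hT : Coh.IsCoh T)
    (h : topologicalKrullDim (CohB1.support T) < ((1 : ℕ) : WithBot ℕ∞)) : FGA.intNum k X 2 ![H'] T = 0 :=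
  Groth.Agent.S3231.result k X 2 hdim (r := 1) ![H'] (fun i => by fin_cases i; exact hH') T hT h

variable (k : Type u) [Field k] (X : Scheme.{u}) [X.Over (Spec (CommRingCat.of k))]
  [IsProper (X ↘ Spec (CommRingCat.of k))]

/-- The intersection number with the structure sheaf of a closed subscheme. -/
theorem intNum_one_quotMod (hdim : topologicalKrullDim X ≤ (2 : ℕ)) {H' : X.Modules} (hH' : PicF.IsInvertible H')
    {C : X.IdealSheafData} (hC : BlowUp.IsEffCartierIdeal C) :
    FGA.intNum k X 2 ![H'] (ClSub.quotMod C) = dot k X (ic C hC) (mk H' hH') := by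
  rw [dot_ic_eq, degOn_mk, Num.intNum_one, Num.eulerLE_eq k X hdim, Num.eulerLE_eq k X hdim,
    euler_congr k X (Ega2.Tens.swap H' (ClSub.quotMod C))]
  ring

variable {X} [Smooth (X ↘ Spec (CommRingCat.of k))] [IsIntegral X] (hdim : topologicalKrullDim X = 2)
  {H' : X.Modules} (hH' : PicF.IsInvertible H')

include hdim in
/-- If the Picard group is generated by `a`, all degrees are divisible by `(a · H')`. -/
theorem dvd_deg {a : Pic X} (ha : ∀ b : Pic X, ∃ n : ℤ, b = a ^ n) {G : X.Modules} (hG : Coh.IsCoh G) :
    dot k X a (mk H' hH') ∣ deg k H' G := by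
  have := SnapperTwist.isNoetherian_of_proper k X
  have hd : topologicalKrullDim X ≤ (2 : ℕ) := hdim.le
  have hadd := isAdd_deg k hd hH'
  refine Ega3B.Devissage.devissage Set.univ isClosed_univ (fun G => dot k X a (mk H' hH') ∣ deg k H' G) ?_ ?_ ?_
    G hG (Set.subset_univ _)
  · intro M hM
    rw [ChiBasic.chi_isZero hadd hM]
    exact dvd_zero _
  · intro S hS h1 h2 h3 _
    have e := hadd S hS h1 h2 h3
    beta_reduce
    rw [e]
    refine ⟨fun x y => ?_, fun x y => ?_, fun x y => ?_⟩
    · exact (dvd_add_right x).mp y
    · exact dvd_add x y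
    · exact (dvd_add_left y).mp x
  · intro y _
    by_cases hy : y = genericPoint X
    · subst hy
      refine ⟨Coh.structureModule X, isCoh_unit k X, ?_, ?_, ?_⟩
      · rw [deg_unit]
        exact dvd_zero _
      · rw [genericPoint_closure]
        exact Set.subset_univ _
      · exact isSimpleModule_iff_finrank_eq_one.mpr (rk_unit (X := X))
    · obtain ⟨a', t, n, h1, -, h3, h4, h5⟩ := CycA.IntLocal.exists_dims (X ↘ Spec (CommRingCat.of k)) y
      have hlt := dim_closure_lt hd hy
      rw [h3] at hlt
      have ht : t < 2 := ENat.natCast_lt_natCast.mp (WithBot.coe_lt_coe.mp hlt)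
      have hn : n = 2 := by
        rw [hdim] at h4
        exact_mod_cast h4.symm
      have ht2 : t = 0 ∨ t = 1 := by omega
      rcases ht2 with rfl | rfl
      · obtain ⟨Z, i, hi, hZ, hgen, hrange⟩ := IntegralSub.exists_integral_closed y
        let G := (Coh.push i).obj (Coh.structureModule Z)
        have hG : Coh.IsCoh G := S0019.result i _ (Fdesc.StructMod.isCoh_structureModule _)
        have hGs : CohB1.support G ⊆ closure {y} :=
          (CohqB.DevSimple.support_push_subset_range i _).trans hrange.le
        have hsimple : IsSimpleModule (X.presheaf.stalk y) (G.presheaf.stalk y) := by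
          have h := isSimple_push i
          rw [hgen] at h
          exact h
        refine ⟨G, hG, ?_, hGs, hsimple⟩
        have hdG : topologicalKrullDim (CohB1.support G) < ((1 : ℕ) : WithBot ℕ∞) := by
          refine lt_of_le_of_lt (DimLt.topologicalKrullDim_mono hGs) ?_
          rw [h3]
          exact WithBot.coe_lt_coe.mpr (ENat.natCast_lt_natCast.mpr Nat.zero_lt_one)
        have hη : genericPoint X ∉ CohB1.support G := by
          intro h
          have h6 : y ⤳ genericPoint X := specializes_iff_mem_closure.mpr (hGs h)
          exact hy (h6.antisymm (genericPoint_specializes y)).eq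
        rw [deg_torsion k hη, intNum_one_eq_zero k X hd hH' hG hdG]
        exact dvd_zero _
      · have ha' : a' = 1 := by omega
        obtain ⟨C, hC, hCy⟩ := K464.Comp.exists_curve (X ↘ Spec (CommRingCat.of k)) hdim y (by
          rw [h1, ha']; rfl)
        have hCe := isEff_of_smooth k hdim hC
        have := hC.integral
        have hG : Coh.IsCoh (ClSub.quotMod C) := S0019.result C.subschemeι _ (Fdesc.StructMod.isCoh_structureModule _)
        have hrange : Set.range C.subschemeι = closure {y} := by
          rw [C.range_subschemeι, ← hCy, closure_gp]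
        have hGs : CohB1.support (ClSub.quotMod C) ⊆ closure {y} :=
          (CohqB.DevSimple.support_push_subset_range C.subschemeι _).trans hrange.le
        have hsimple : IsSimpleModule (X.presheaf.stalk y) ((ClSub.quotMod C).presheaf.stalk y) := by
          have h := isSimple_push C.subschemeι
          rw [show C.subschemeι (genericPoint C.subscheme) = y from hCy] at h
          exact h
        refine ⟨ClSub.quotMod C, hG, ?_, hGs, hsimple⟩
        have hη : genericPoint X ∉ CohB1.support (ClSub.quotMod C) := by
          intro h
          have h6 : y ⤳ genericPoint X := specializes_iff_mem_closure.mpr (hGs h)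
          exact hy (h6.antisymm (genericPoint_specializes y)).eq
        rw [deg_torsion k hη, intNum_one_quotMod k X hd hH' hCe]
        obtain ⟨n, hn⟩ := ha (ic C hCe)
        rw [hn, dot_zpow_left k X hd]
        exact Dvd.intro_left n rfl

end K462.DivDeg
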