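import Groth.Agent.Surf.K462.K3Abs
import Groth.Agent.Surf.K461.SerreDual
import Groth.Agent.Picfga.CurveRelDim
import Groth.Prelude.Def_Canon

/-!
# Duality for invertible modules on a surface with trivial canonical sheaf
-/

set_option autoImplicit false
universe u
open CategoryTheory CategoryTheory.Limits AlgebraicGeometry TopologicalSpace Opposite

namespace K462.K3Inv

open Groth.Agent Groth.Agent.Fga Groth.Agent.Fga.PicMon

/-- Serre duality for invertible modules when the canonical sheaf is trivial. -/
theorem invDual (k : Type u) [Field k] (X : Scheme.{u}) [X.Over (Spec (CommRingCat.of k))]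
    [IsProper (X ↘ Spec (CommRingCat.of k))] [Smooth (X ↘ Spec (CommRingCat.of k))] [IsIntegral X]
    (hdim : topologicalKrullDim X = 2)
    (hK : Canon.IsTopDiff (X ↘ Spec (CommRingCat.of k)) 2 (Coh.structureModule X)) :
    K3Abs.InvDual k X := by
  intro L L' e p q h
  have hsm : SmoothOfRelativeDimension 2 (X ↘ Spec (CommRingCat.of k)) :=
    Picfga.CurveRelDim.smoothOfRelativeDimension_of_topologicalKrullDim_eq k X _ 2 hdim
  have hL : PicF.IsInvertible L := Groth.Agent.S2122.result L L' e.some
  rw [K461.SerreDual.finrank_eq k 2 hK e (HodgeSec.isCoh_of_isInvertible hL).1 q p h]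
  exact K3Abs.finrank_congr k X (Ega2.Tens.swap _ _ ≪≫ Ega2.Tens.runit L') q

end K462.K3Inv
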