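import Groth.Agent.Surf.K462.Num
import Groth.Agent.ShStab.K848.Hull
import Groth.Agent.Dcoh.FinLocFree
import Groth.Agent.Ega3B.Devissage

/-!
# Additive functions on coherent modules of an integral proper surface: rank and degree

* `isAdd_rk` : the generic rank is additive.
* `chi_freeMod` : `χ(O^n) = n χ(O)` for additive `χ`.
* `deg` : `F ↦ (H · F) - rk F · (H · O)`, the degree of a coherent module; additive, zero on `O^n`, nonnegative on
  torsion modules, zero exactly when the support has dimension `≤ 0` (`H` ample).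
-/

set_option autoImplicit false
universe u
open CategoryTheory CategoryTheory.Limits AlgebraicGeometry TopologicalSpace Opposite

namespace K462.Deg

open Groth.Agent Groth.Agent.Fga Groth.Agent.CycB.StalkExact K848.Hull

theorem finrank_add_of_exact {K A B C : Type*} [Field K] [AddCommGroup A] [Module K A] [AddCommGroup B]
    [Module K B] [AddCommGroup C] [Module K C] [Module.Finite K B] (f : A →ₗ[K] B) (g : B →ₗ[K] C)
    (hf : Function.Injective f) (hg : Function.Surjective g) (hex : Function.Exact f g) :
    Module.finrank K B = Module.finrank K A + Module.finrank K C := by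
  have h1 := LinearMap.finrank_range_add_finrank_ker g
  rw [LinearMap.range_eq_top.mpr hg, finrank_top, LinearMap.exact_iff.mp hex,
    (LinearEquiv.ofInjective f hf).finrank_eq.symm] at h1
  omega

variable {X : Scheme.{u}}

section Rank

variable [IsIntegral X]

theorem rk_eq_zero {F : X.Modules} (h : genericPoint X ∉ CohB1.support F) : rk F = 0 := by
  have h1 : Subsingleton (F.presheaf.stalk (genericPoint X)) := not_not.mp h
  exact Module.finrank_zero_of_subsingleton

/-- The generic rank is additive. -/
theorem isAdd_rk [IsLocallyNoetherian X] : ChiBasic.IsAdd (fun F : X.Modules => (rk F : ℤ)) := by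
  intro S hS h1 h2 h3
  have := hS.mono_f
  have := hS.epi_g
  have hfin : Module.Finite X.functionField (S.X₂.presheaf.stalk (genericPoint X)) :=
    Groth.Agent.Divis.StalkMod.finite_stalk h2 _
  have := finrank_add_of_exact (K := X.functionField) (stalkLin S.f (genericPoint X)) (stalkLin S.g (genericPoint X))
    (stalkLin_injective S.f _) (stalkLin_surjective S.g _) (stalkLin_exact S hS.exact _)
  dsimp only [rk]
  exact_mod_cast this

end Rank

section Free

variable {χ : X.Modules → ℤ} (hχ : ChiBasic.IsAdd χ)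
include hχ

theorem chi_biprod {M N : X.Modules} (hM : Coh.IsCoh M) (hN : Coh.IsCoh N) (hMN : Coh.IsCoh (M ⊞ N)) :
    χ (M ⊞ N) = χ M + χ N := by
  have hS : (ShortComplex.mk (biprod.inl : M ⟶ M ⊞ N) (biprod.snd : M ⊞ N ⟶ N) (by simp)).ShortExact :=
    (ShortComplex.Splitting.mk biprod.fst biprod.inr (by simp) (by simp) (by simp)).shortExact
  have := hχ _ hS hM hMN hN
  exact this

omit hχ in
theorem isCoh_freeMod [IsLocallyNoetherian X] (n : ℕ) : Coh.IsCoh (FlatMod.freeMod X n) :=
  Groth.Agent.PerfA.CohSerre.isCoh_of_isFinLocFree (Groth.Agent.Dcoh.FinLocFree.isFinLocFree_freeMod X n)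

/-- `χ(O^n) = n χ(O)`. -/
theorem chi_freeMod [IsLocallyNoetherian X] (n : ℕ) :
    χ (FlatMod.freeMod X n) = n * χ (Coh.structureModule X) := by
  have hO : Coh.IsCoh (Coh.structureModule X) := HodgeSec.isCoh_of_isInvertible Fdesc.LocGen.isInvertible_structureModule
  induction n with
  | zero =>
    rw [ChiBasic.chi_isZero hχ (Groth.Agent.Dcoh.FinLocFree.isZero_freeMod_zero X)]
    simp
  | succ n ih =>
    obtain ⟨e⟩ := Groth.Agent.Dcoh.FinLocFree.nonempty_biprod_freeMod_iso X n 1
    have h1 : χ (FlatMod.freeMod X n ⊞ FlatMod.freeMod X 1) = χ (FlatMod.freeMod X (n + 1)) :=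
      ChiBasic.chi_iso hχ e (Sga67.CohBasic.isCoh_of_iso e.symm (isCoh_freeMod (n + 1)))
    have h2 := chi_biprod hχ (isCoh_freeMod n) (isCoh_freeMod 1)
      (Sga67.CohBasic.isCoh_of_iso e.symm (isCoh_freeMod (n + 1)))
    have h3 : χ (FlatMod.freeMod X 1) = χ (Coh.structureModule X) :=
      (ChiBasic.chi_iso hχ (Ega2.QCohLocal.freeModOneIso X) hO).symm
    rw [← h1, h2, ih, h3]
    push_cast
    ring

end Free

section Deg

variable (k : Type u) [Field k] [X.Over (Spec (CommRingCat.of k))] [IsIntegral X] (H' : X.Modules)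

/-- The degree of a coherent module with respect to the inverse of `H'`. -/
noncomputable def deg (F : X.Modules) : ℤ :=
  FGA.intNum k X 2 ![H'] F - (rk F : ℤ) * FGA.intNum k X 2 ![H'] (Coh.structureModule X)

variable [IsProper (X ↘ Spec (CommRingCat.of k))] {H' : X.Modules}

theorem isAdd_deg [IsLocallyNoetherian X] (hdim : topologicalKrullDim X ≤ (2 : ℕ)) (hH' : PicF.IsInvertible H') :
    ChiBasic.IsAdd (deg k H') := by
  intro S hS h1 h2 h3
  have e1 := Num.isAdd_intNum_one k X hdim hH' S hS h1 h2 h3
  have e2 := isAdd_rk S hS h1 h2 h3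
  simp only [deg] at e1 e2 ⊢
  rw [e1, e2]
  ring

theorem rk_unit : rk (Coh.structureModule X) = 1 :=
  rk_structureModule_of_isInvertible Fdesc.LocGen.isInvertible_structureModule

theorem deg_unit : deg k H' (Coh.structureModule X) = 0 := by
  unfold deg
  rw [rk_unit]
  ring

theorem deg_freeMod [IsLocallyNoetherian X] (hdim : topologicalKrullDim X ≤ (2 : ℕ)) (hH' : PicF.IsInvertible H')
    (n : ℕ) : deg k H' (FlatMod.freeMod X n) = 0 := by
  rw [chi_freeMod (isAdd_deg k hdim hH') n, deg_unit, mul_zero]

/-- The degree of a torsion module. -/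
theorem deg_torsion {T : X.Modules} (h : genericPoint X ∉ CohB1.support T) :
    deg k H' T = FGA.intNum k X 2 ![H'] T := by
  unfold deg
  rw [rk_eq_zero h]
  simp

theorem dim_one_cases {A : Set X} (h : topologicalKrullDim A < ((2 : ℕ) : WithBot ℕ∞)) :
    topologicalKrullDim A < ((1 : ℕ) : WithBot ℕ∞) ∨ topologicalKrullDim A = ((1 : ℕ) : WithBot ℕ∞) := by
  rcases Set.eq_empty_or_nonempty A with rfl | hne
  · left
    have : topologicalKrullDim (∅ : Set X) = ⊥ := by
      have : IsEmpty (IrreducibleCloseds (∅ : Set X)) := ⟨fun Z => Z.2.nonempty.some.2⟩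
      exact Order.krullDim_eq_bot
    rw [this]
    exact WithBot.bot_lt_coe _
  · rcases Num.dim_cases hne h with h | h
    · left; rw [h]; exact WithBot.coe_lt_coe.mpr (ENat.natCast_lt_natCast.mpr Nat.zero_lt_one)
    · right; exact h

/-- The degree of a torsion module is nonnegative and zero only if the support is finite. -/
theorem deg_torsion_nonneg (hdim : topologicalKrullDim X ≤ (2 : ℕ)) {H : X.Modules} (hH : CohB1.IsAmple H)
    (hHH' : Nonempty (CohB1.tensorMod H H' ≅ Coh.structureModule X)) (hH' : PicF.IsInvertible H')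
    {T : X.Modules} (hT : Coh.IsCoh T) (h : genericPoint X ∉ CohB1.support T) :
    0 ≤ deg k H' T ∧ (deg k H' T = 0 → topologicalKrullDim (CohB1.support T) < ((1 : ℕ) : WithBot ℕ∞)) := by
  rw [deg_torsion k h]
  rcases dim_one_cases (Num.dim_support_lt hdim hT h) with h1 | h1
  · rw [Groth.Agent.S3231.result k X 2 hdim (r := 1) ![H'] (fun i => by fin_cases i; exact hH') T hT h1]
    exact ⟨le_rfl, fun _ => h1⟩
  · have := Groth.Agent.S3233.result k X 2 hdim (r := 1) ![H] ![H'] (fun i => by fin_cases i; exact hH)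
      (fun i => by fin_cases i; exact hHH') T hT h1
    exact ⟨this.le, fun h0 => absurd h0 this.ne'⟩

end Deg

end K462.Deg
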