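import Groth.Agent.Surf.K462.CohLES
import Groth.Agent.Surf.K462.Deg

/-!
# Cohomology of free modules
-/

set_option autoImplicit false
universe u
open CategoryTheory CategoryTheory.Limits AlgebraicGeometry TopologicalSpace Opposite

namespace K462.HFree

open Groth.Agent Groth.Agent.Fga Groth.Agent.VarietyA.EulerLES K462.Deg

variable (k : Type u) [Field k] {X : Scheme.{u}} [X.Over (Spec (CommRingCat.of k))]
  [IsProper (X ↘ Spec (CommRingCat.of k))]

/-- Cohomology of a direct sum. -/
theorem finrank_biprod {M N : X.Modules} (h : Coh.IsCoh (M ⊞ N)) (p : ℕ) :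
    Module.finrank k (Coh.HH X (M ⊞ N) p) =
      Module.finrank k (Coh.HH X M p) + Module.finrank k (Coh.HH X N p) := by
  have hS : (ShortComplex.mk (biprod.inl : M ⟶ M ⊞ N) (biprod.snd : M ⊞ N ⟶ N) (by simp)).ShortExact :=
    (ShortComplex.Splitting.mk biprod.fst biprod.inr (by simp) (by simp) (by simp)).shortExact
  have := HodgeSec.finite_HH' k h p
  refine finrank_add_of_exact (mapA k (biprod.inl : M ⟶ M ⊞ N) p) (mapA k (biprod.snd : M ⊞ N ⟶ N) p) ?_ ?_
    (exactA₂ k _ hS p)
  · refine Function.LeftInverse.injective (g := mapA k (biprod.fst : M ⊞ N ⟶ M) p) fun x => ?_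
    have h1 := mapA_comp k (biprod.inl : M ⟶ M ⊞ N) (biprod.fst : M ⊞ N ⟶ M) p
    rw [biprod.inl_fst, mapA_id] at h1
    exact (LinearMap.congr_fun h1 x).symm
  · refine Function.RightInverse.surjective (g := mapA k (biprod.inr : N ⟶ M ⊞ N) p) fun x => ?_
    have h1 := mapA_comp k (biprod.inr : N ⟶ M ⊞ N) (biprod.snd : M ⊞ N ⟶ N) p
    rw [biprod.inr_snd, mapA_id] at h1
    exact (LinearMap.congr_fun h1 x).symm

/-- Cohomology of a free module. -/
theorem finrank_freeMod (n p : ℕ) : Module.finrank k (Coh.HH X (FlatMod.freeMod X n) p) =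
    n * Module.finrank k (Coh.HH X (Coh.structureModule X) p) := by
  have := SnapperTwist.isNoetherian_of_proper k X
  induction n with
  | zero =>
    have := CohLES.subsingleton_of_isZero (Groth.Agent.Dcoh.FinLocFree.isZero_freeMod_zero X) p
    rw [zero_mul]
    exact Module.finrank_zero_of_subsingleton
  | succ n ih =>
    obtain ⟨e⟩ := Groth.Agent.Dcoh.FinLocFree.nonempty_biprod_freeMod_iso X n 1
    have h1 := finrank_biprod k (Sga67.CohBasic.isCoh_of_iso e.symm (isCoh_freeMod (n + 1))) p
    rw [(equivA k e p).finrank_eq, ih, ← (equivA k (Ega2.QCohLocal.freeModOneIso X) p).finrank_eq] at h1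
    rw [h1]
    ring

end K462.HFree
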