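import Groth.Agent.Surf.K462.LMCoh
import Groth.Agent.Surf.K462.K3Inv
import Groth.Agent.VarietyA.DegRank
import Groth.Agent.Krr.H495.Rank

/-!
# The Euler characteristic of the endomorphisms of a Lazarsfeld–Mukai bundle
-/

set_option autoImplicit false
universe u
open CategoryTheory CategoryTheory.Limits AlgebraicGeometry TopologicalSpace Opposite

namespace K462.LMChi

open Groth.Agent Groth.Agent.Fga Groth.Agent.VarietyA.EulerLES K462.Deg K462.CohLES K462.LMCoh K462.LM K848.Hull

/-- A finite locally free module on an integral scheme whose generic rank is `n` is locally free of rank `n`. -/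
theorem isFinLocFreeOfRank_rk {X : Scheme.{u}} [IsIntegral X] {V : X.Modules} (hV : FlatMod.IsFinLocFree V) {n : ℕ}
    (hn : rk V = n) : FlatMod.IsFinLocFreeOfRank n V := by
  intro x
  obtain ⟨U, m, hx, ⟨e⟩⟩ := hV x
  have h1 := eq_rk_of_triv e hx
  rw [hn] at h1
  subst h1
  exact ⟨U, hx, ⟨e⟩⟩

theorem rk_dual {X : Scheme.{u}} [IsIntegral X] [IsLocallyNoetherian X] {F : X.Modules} (hF : Coh.IsCoh F) :
    rk (RefHull.dual F) = rk F := by
  have h := K476.HomSh4.dualStalkEquiv F (K476.HomSh3.isFP_of_isCoh hF) (genericPoint X)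
  have h1 : rk (RefHull.dual F) = Module.finrank X.functionField
      (Module.Dual X.functionField (F.presheaf.stalk (genericPoint X))) := LinearEquiv.finrank_eq h
  rw [h1]
  exact Subspace.dual_finrank_eq

section curve

variable (k : Type u) [Field k] {X : Scheme.{u}} [X.Over (Spec (CommRingCat.of k))]
  [IsProper (X ↘ Spec (CommRingCat.of k))] {C : Scheme.{u}} (i : C ⟶ X) [IsClosedImmersion i] [IsIntegral C]
  (hC : topologicalKrullDim C = 1)

include hC in
omit [X.Over (Spec (CommRingCat.of k))] [IsProper (X ↘ Spec (CommRingCat.of k))] in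
theorem dim_support_le_zero {G : X.Modules} (hG : Coh.IsCoh G)
    (hGs : CohB1.support G ⊆ closure {i (genericPoint C)}) (hGy : i (genericPoint C) ∉ CohB1.support G) :
    topologicalKrullDim (CohB1.support G) ≤ 0 := by
  have hr := range_eq_closure i
  have hdy : topologicalKrullDim (closure {i (genericPoint C)} : Set X) < ((1 + 1 : ℕ) : WithBot ℕ∞) := by
    have h3 : topologicalKrullDim C = topologicalKrullDim (Set.range i) :=
      i.isClosedEmbedding.isEmbedding.toHomeomorph.isHomeomorph.topologicalKrullDim_eq _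
    rw [← hr, ← h3, hC]
    exact WithBot.coe_lt_coe.mpr (ENat.natCast_lt_natCast.mpr (Nat.lt_succ_self 1))
  have h1 : topologicalKrullDim (CohB1.support G) < ((0 + 1 : ℕ) : WithBot ℕ∞) := by
    refine DimLt.topologicalKrullDim_lt isIrreducible_singleton.closure (Ega3B.Devissage.isClosed_support hG) hGs
      (fun h => hGy ?_) hdy
    rw [h]
    exact subset_closure rfl
  exact IntNum0.withBot_le_of_lt_succ (r := 0) h1

include k in
/-- Additive functions vanishing on points of a curve agree on `i_* A` and `O_X / I_C`. -/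
theorem additive_push {A : C.Modules} (hA : PicF.IsInvertible A) (hAc : Coh.IsCoh ((Coh.push i).obj A))
    {φ : X.Modules → ℤ} (hφ : ChiBasic.IsAdd φ)
    (h0 : ∀ G : X.Modules, Coh.IsCoh G → CohB1.support G ⊆ closure {i (genericPoint C)} →
      i (genericPoint C) ∉ CohB1.support G → φ G = 0) :
    φ ((Coh.push i).obj A) = φ (ClSub.quotMod i.ker) := by
  have := SnapperTwist.isNoetherian_of_proper k X
  have e : C ≅ i.ker.subscheme := asIso i.toImage
  have : Nonempty i.ker.subscheme := ⟨e.hom (genericPoint C)⟩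
  have hKi : IsIntegral i.ker.subscheme := isIntegral_of_isOpenImmersion e.inv
  have hr := range_eq_closure i
  have hG₀ : Coh.IsCoh (ClSub.quotMod i.ker) :=
    S0019.result i.ker.subschemeι _ (Fdesc.StructMod.isCoh_structureModule _)
  have hrange : Set.range i.ker.subschemeι = closure {i (genericPoint C)} := by
    rw [i.ker.range_subschemeι, Scheme.Hom.support_ker, i.isClosedEmbedding.isClosed_range.closure_eq, hr]
  have hs₀ : IsSimpleModule (X.presheaf.stalk (i (genericPoint C)))
      ((ClSub.quotMod i.ker).presheaf.stalk (i (genericPoint C))) := by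
    have h := DivDeg.isSimple_push i.ker.subschemeι
    have hy : i.ker.subschemeι (genericPoint i.ker.subscheme) = i (genericPoint C) := by
      have h4 := range_eq_closure i.ker.subschemeι
      rw [hrange] at h4
      exact (inseparable_iff_closure_eq.2 h4).symm.eq
    rw [hy] at h
    exact h
  have hs : IsSimpleModule (X.presheaf.stalk (i (genericPoint C)))
      (((Coh.push i).obj A).presheaf.stalk (i (genericPoint C))) := by
    obtain ⟨U, hU, hUe⟩ := hA (genericPoint C)
    have : Nonempty U := ⟨⟨_, hU⟩⟩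
    exact CohqB.DevSimple.isSimpleModule_stalk_push i A U hUe
  have key := MultForm.length_formula φ hφ (i (genericPoint C)) h0 (ClSub.quotMod i.ker) hG₀
    ((CohqB.DevSimple.support_push_subset_range i.ker.subschemeι _).trans hrange.le) hs₀
    ((Coh.push i).obj A) hAc ((CohqB.DevSimple.support_push_subset_range i _).trans hr.le)
  rw [Module.length_eq_one_iff.mpr hs] at key
  simpa using key

omit [IsProper (X ↘ Spec (CommRingCat.of k))] [IsIntegral C] in
/-- The Euler characteristic of `O_X / I_C`. -/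
theorem euler_quotMod_ker [C.Over (Spec (CommRingCat.of k))]
    (hi : i ≫ (X ↘ Spec (CommRingCat.of k)) = C ↘ Spec (CommRingCat.of k)) :
    Curv2.euler k X (ClSub.quotMod i.ker) = Curv2.euler k C (Coh.structureModule C) := by
  let := K464.Curves.overC k X i.ker
  let e : C ≅ i.ker.subscheme := asIso i.toImage
  have he : e.hom ≫ (i.ker.subscheme ↘ Spec (CommRingCat.of k)) = C ↘ Spec (CommRingCat.of k) := by
    change i.toImage ≫ i.ker.subschemeι ≫ (X ↘ Spec (CommRingCat.of k)) = _
    rw [← Category.assoc, Scheme.Hom.toImage_imageι, hi]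
  rw [K464.Curves.euler_quotMod_sub, ← CurvesC.DegIso.euler_pullback_iso k e he]
  exact K464.Base.euler_congr k C (CurvesA.HHMap.pullbackUnit e.hom)

end curve

section chi

variable (k : Type u) [Field k] {X : Scheme.{u}} [X.Over (Spec (CommRingCat.of k))]
  [IsProper (X ↘ Spec (CommRingCat.of k))] {n : ℕ} {V : X.Modules} (hV : FlatMod.IsFinLocFreeOfRank n V)

include hV

theorem isAdd_tensor : ChiBasic.IsAdd (fun M : X.Modules => Curv2.euler k X (CohB1.tensorMod V M)) :=
  fun S hS h1 h2 h3 => VarietyA.DegRank.euler_tensor_add k n V hV S hS h1 h2 h3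

theorem isAdd_psi : ChiBasic.IsAdd (fun M : X.Modules => Curv2.euler k X (CohB1.tensorMod V M) -
    n * Curv2.euler k X M) := by
  intro S hS h1 h2 h3
  have e1 := isAdd_tensor k hV S hS h1 h2 h3
  have e2 := Num.isAdd_euler k X S hS h1 h2 h3
  dsimp only at e1 e2 ⊢
  rw [e1, e2]
  ring

/-- Riemann–Roch along an integral curve. -/
theorem psi_push {C : Scheme.{u}} (i : C ⟶ X) [IsClosedImmersion i] [IsIntegral C] (hC : topologicalKrullDim C = 1)
    {A : C.Modules} (hA : PicF.IsInvertible A) (hAc : Coh.IsCoh ((Coh.push i).obj A)) :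
    Curv2.euler k X (CohB1.tensorMod V ((Coh.push i).obj A)) - n * Curv2.euler k X ((Coh.push i).obj A) =
      Curv2.euler k X (CohB1.tensorMod V (ClSub.quotMod i.ker)) - n * Curv2.euler k X (ClSub.quotMod i.ker) := by
  have := SnapperTwist.isNoetherian_of_proper k X
  have h0 : ∀ G : X.Modules, Coh.IsCoh G → CohB1.support G ⊆ closure {i (genericPoint C)} →
      i (genericPoint C) ∉ CohB1.support G →
      Curv2.euler k X (CohB1.tensorMod V G) - n * Curv2.euler k X G = 0 := by
    intro G hG hGs hGy
    have hd := dim_support_le_zero i hC hG hGs hGy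
    rw [VarietyA.EulerFinite.euler_tensor_of_support k X G hG hd n V hV _ (Iso.refl _), sub_self]
  exact additive_push k i hA hAc (isAdd_psi k hV) h0

end chi

section main

variable (k : Type u) [Field k] {X : Scheme.{u}} [X.Over (Spec (CommRingCat.of k))]
  [IsProper (X ↘ Spec (CommRingCat.of k))] [Smooth (X ↘ Spec (CommRingCat.of k))] [IsIntegral X]
  (hdim : topologicalKrullDim X = 2)
  (hK : Canon.IsTopDiff (X ↘ Spec (CommRingCat.of k)) 2 (Coh.structureModule X))

include hdim hK

/-- Duality for Euler characteristics of locally free modules. -/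
theorem euler_dual {F : X.Modules} (hF : FlatMod.IsFinLocFree F) :
    Curv2.euler k X (RefHull.dual F) = Curv2.euler k X F := by
  have hd : topologicalKrullDim X ≤ (2 : ℕ) := hdim.le
  have h0 := K3LF.finrank_dual k hdim hK hF 0 2 rfl
  have h1 := K3LF.finrank_dual k hdim hK hF 1 1 rfl
  have h2 := K3LF.finrank_dual k hdim hK hF 2 0 rfl
  rw [← Num.eulerLE_eq k X hd, ← Num.eulerLE_eq k X hd]
  unfold FGA.eulerCharLE
  simp only [Finset.sum_range_succ, Finset.sum_range_zero, h0, h1, h2]
  ring

omit hdim hK [Smooth (X ↘ Spec (CommRingCat.of k))] in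
include k in
theorem rank_dual {G : X.Modules} {e : ℕ} (lam : FlatMod.freeMod X e ⟶ G) [Epi lam] (hG : Coh.IsCoh G)
    (hη : genericPoint X ∉ CohB1.support G) (hF : FlatMod.IsFinLocFree (kernel lam)) :
    FlatMod.IsFinLocFreeOfRank e (RefHull.dual (kernel lam)) := by
  have := SnapperTwist.isNoetherian_of_proper k X
  have hFc := isCoh_of_isFinLocFree hF
  refine isFinLocFreeOfRank_rk (isFinLocFree_dual hF) ((rk_dual hFc).trans ?_)
  have h1 := isAdd_rk (X := X) _ (kernel_ses lam) hFc (isCoh_freeMod e) hG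
  have h2 := chi_freeMod (isAdd_rk (X := X)) e
  dsimp only at h1 h2
  rw [rk_unit] at h2
  rw [h2, Deg.rk_eq_zero hη] at h1
  have h3 : (rk (kernel lam) : ℤ) = e := by
    push_cast at h1
    linarith
  exact_mod_cast h3

omit hdim hK [Smooth (X ↘ Spec (CommRingCat.of k))] [IsIntegral X] in
include k in
/-- The two sequences. -/
theorem seqs {φ : X.Modules → ℤ} (hφ : ChiBasic.IsAdd φ) {D : X.IdealSheafData}
    (hD : Coh.IsCoh (ClSub.idealMod D)) {G : X.Modules} {e : ℕ} (lam : FlatMod.freeMod X e ⟶ G) [Epi lam]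
    (hG : Coh.IsCoh G) (hF : Coh.IsCoh (kernel lam)) :
    φ (Coh.structureModule X) = φ (ClSub.idealMod D) + φ (ClSub.quotMod D) ∧
    e * φ (Coh.structureModule X) = φ (kernel lam) + φ G := by
  have := SnapperTwist.isNoetherian_of_proper k X
  have hOc : Coh.IsCoh (Coh.structureModule X) := HodgeSec.isCoh_of_isInvertible Fdesc.LocGen.isInvertible_structureModule
  have hQc : Coh.IsCoh (ClSub.quotMod D) := S0019.result D.subschemeι _ (Fdesc.StructMod.isCoh_structureModule _)
  constructor
  · have h := hφ _ (VarietyB.RestrSeq.idealSeq_shortExact D) hD hOc hQc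
    dsimp only [VarietyB.RestrSeq.idealSeq] at h
    exact h
  · have h := hφ _ (kernel_ses lam) hF (isCoh_freeMod e) hG
    dsimp only at h
    rw [chi_freeMod hφ e] at h
    exact h

/-- The Euler characteristic of `F^∨ ⊗ F`. -/
theorem euler_end {C : Scheme.{u}} (i : C ⟶ X) [IsClosedImmersion i] [IsIntegral C]
    (hC : topologicalKrullDim C = 1) (hO : Curv2.euler k X (Coh.structureModule X) = 2)
    {A : C.Modules} (hA : PicF.IsInvertible A) (hAc : Coh.IsCoh ((Coh.push i).obj A)) {e : ℕ}
    (lam : FlatMod.freeMod X e ⟶ (Coh.push i).obj A) [Epi lam] (hF : FlatMod.IsFinLocFree (kernel lam)) :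
    Curv2.euler k X (CohB1.tensorMod (RefHull.dual (kernel lam)) (kernel lam)) =
      2 * (e : ℤ) ^ 2 - 2 * e * Curv2.euler k X ((Coh.push i).obj A) +
        2 * Curv2.euler k X (ClSub.quotMod i.ker) := by
  have := SnapperTwist.isNoetherian_of_proper k X
  have hcur := isCurve_ker i hC
  have hD : BlowUp.IsEffCartierIdeal i.ker := K464.Curves.isEff_of_smooth k hdim hcur
  have hI : PicF.IsInvertible (ClSub.idealMod i.ker) := Dix.IdealModCartier.isInvertible_idealMod hD
  obtain ⟨J, hJ, ⟨eIJ⟩⟩ := Grpsch.PicGrp.exists_inverse hI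
  have eJI : CohB1.tensorMod J (ClSub.idealMod i.ker) ≅ Coh.structureModule X := Ega2.Tens.swap _ _ ≪≫ eIJ
  have hJf := isFinLocFree_of_isInvertible hJ
  have hJ1 : FlatMod.IsFinLocFreeOfRank 1 J := isFinLocFreeOfRank_rk hJf (rk_structureModule_of_isInvertible hJ)
  have hFc := isCoh_of_isFinLocFree hF
  have hIc : Coh.IsCoh (ClSub.idealMod i.ker) := HodgeSec.isCoh_of_isInvertible hI
  have hη : genericPoint X ∉ CohB1.support ((Coh.push i).obj A) := fun h =>
    genericPoint_notMem i hdim hC (CohqB.DevSimple.support_push_subset_range i _ h)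
  have hV := rank_dual k lam hAc hη hF
  obtain ⟨c1, d1⟩ := seqs k (Num.isAdd_euler k X) hIc lam hAc hFc
  obtain ⟨c2, d2⟩ := seqs k (isAdd_tensor k hV) hIc lam hAc hFc
  obtain ⟨c3, d3⟩ := seqs k (isAdd_tensor k hJ1) hIc lam hAc hFc
  have g1 := K464.Base.euler_congr k X (Ega2.Tens.runit (RefHull.dual (kernel lam)))
  have g2 := K464.Base.euler_congr k X (Ega2.Tens.runit J)
  have g3 := K464.Base.euler_congr k X eJI
  have g4 := euler_dual k hdim hK hF
  have g5 : Curv2.euler k X J = Curv2.euler k X (ClSub.idealMod i.ker) := by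
    have h1 := (K3Inv.invDual k X hdim hK).euler ⟨eJI⟩
    rwa [Num.eulerLE_eq k X hdim.le, Num.eulerLE_eq k X hdim.le] at h1
  have g6 : Curv2.euler k X (CohB1.tensorMod (RefHull.dual (kernel lam)) (ClSub.idealMod i.ker)) =
      Curv2.euler k X (CohB1.tensorMod J (kernel lam)) := by
    rw [← euler_dual k hdim hK (Sga67.LocBasis.isFinLocFree_tensorMod hJf hF)]
    exact (K464.Base.euler_congr k X (HomMon.dualTensor eJI hF)).symm
  have p1 := psi_push k hV i hC hA hAc
  have p2 := psi_push k hJ1 i hC hA hAc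

  push_cast at p2
  rw [g1, g4, g6] at c2
  rw [g1, g4] at d2
  rw [g2, g3, hO, g5] at c3
  rw [g2, g5] at d3
  rw [hO] at c1 d1
  linear_combination (-1 : ℤ) * d2 - p1 + (1 - (e : ℤ)) * d1 + c2 - d3 + (1 - (e : ℤ)) * c1 - p2 + c3

end main

end K462.LMChi
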