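import Mathlib.CategoryTheory.Linear.Basic
import Mathlib.CategoryTheory.Abelian.Basic
import Mathlib.FieldTheory.IsAlgClosed.Spectrum

/-!
# Endomorphisms which are not monomorphisms

A nonzero object with finite-dimensional endomorphism algebra over an algebraically closed field: for every
endomorphism `φ` there is a scalar `c` such that `φ - c` is not a monomorphism.
-/

set_option autoImplicit false
universe v u w
open CategoryTheory CategoryTheory.Limits

namespace K462.EndScal

variable {C : Type u} [Category.{v} C] [Preadditive C] (k : Type w) [Field k] [IsAlgClosed k] [Linear k C]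

/-- For an endomorphism `φ` there is a scalar `c` such that `φ - c` is not a monomorphism. -/
theorem exists_not_mono {W : C} [Module.Finite k (W ⟶ W)] (hW : ¬ IsZero W) (φ : W ⟶ W) :
    ∃ c : k, ¬ Mono (φ - c • 𝟙 W) := by
  have hfin : Module.Finite k (End W) := inferInstanceAs (Module.Finite k (W ⟶ W))
  have hnt : Nontrivial (End W) := by
    refine ⟨⟨0, 1, fun h => hW ?_⟩⟩
    rw [IsZero.iff_id_eq_zero]
    exact h.symm
  obtain ⟨c, hc⟩ := spectrum.nonempty_of_isAlgClosed_of_finiteDimensional k (A := End W) (φ : End W)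
  refine ⟨c, fun hm => ?_⟩
  rw [spectrum.mem_iff] at hc
  apply hc
  have hinj : Function.Injective (fun α : W ⟶ W => α ≫ (φ - c • 𝟙 W)) := fun a b h =>
    (cancel_mono _).mp h
  let T : (W ⟶ W) →ₗ[k] (W ⟶ W) :=
    { toFun := fun α => α ≫ (φ - c • 𝟙 W)
      map_add' := fun a b => Preadditive.add_comp _ _ _ _ _ _
      map_smul' := fun a b => Linear.smul_comp _ _ _ _ _ _ }
  have hsurj : Function.Surjective T := LinearMap.injective_iff_surjective.mp hinj
  obtain ⟨α, hα⟩ := hsurj (𝟙 W)
  have hα' : α ≫ (φ - c • 𝟙 W) = 𝟙 W := hα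
  have hiso : IsIso (φ - c • 𝟙 W) := by
    have : IsSplitEpi (φ - c • 𝟙 W) := ⟨⟨⟨α, hα'⟩⟩⟩
    exact isIso_of_mono_of_isSplitEpi _
  have h1 : IsIso (-(φ - c • 𝟙 W)) := by
    refine ⟨⟨-inv (φ - c • 𝟙 W), ?_, ?_⟩⟩
    · rw [Preadditive.neg_comp_neg, IsIso.hom_inv_id]
    · rw [Preadditive.neg_comp_neg, IsIso.inv_hom_id]
  have h2 : (algebraMap k (End W) c - (show End W from φ) : End W) = (show End W from -(φ - c • 𝟙 W)) := by
    change c • 𝟙 W - φ = -(φ - c • 𝟙 W)
    rw [neg_sub]
  change IsUnit (algebraMap k (End W) c - (show End W from φ) : End W)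
  rw [h2]
  exact (isUnit_iff_isIso (X := W) _).mpr h1

end K462.EndScal
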