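import Groth.Agent.Surf.K462.SubFree
import Groth.Agent.Surf.K462.EndScal
import Groth.Agent.ASBun.K792.HomFin

/-!
# Simplicity from stability

`scalar` : on an integral proper regular surface, `F` a finite locally free module without sections embedded in a free
module, whose degree is `-c` with `c > 0` dividing all degrees; then the endomorphisms of `F` are scalars.
-/

set_option autoImplicit false
universe u
open CategoryTheory CategoryTheory.Limits AlgebraicGeometry TopologicalSpace Opposite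

namespace K462.Scalar

open Groth.Agent Groth.Agent.Fga K848.Hull K462.Deg

attribute [local instance] Groth.Agent.CurvesC.LinMod.linearModules

variable (k : Type u) [Field k] {X : Scheme.{u}} [X.Over (Spec (CommRingCat.of k))]
  [IsProper (X ↘ Spec (CommRingCat.of k))] [IsIntegral X]

/-- A nonzero endomorphism of a stable module is a monomorphism. -/
theorem mono_of_ne_zero (hdim : topologicalKrullDim X = 2) (hn : ∀ x : X, IsIntegrallyClosed (X.presheaf.stalk x))
    {H H' : X.Modules} (hH : CohB1.IsAmple H)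
    (hHH' : Nonempty (CohB1.tensorMod H H' ≅ Coh.structureModule X)) (hH' : PicF.IsInvertible H')
    {F : X.Modules} (hF : Coh.IsCoh F) (hFf : FlatMod.IsFinLocFree F)
    (h0 : ∀ s : Coh.structureModule X ⟶ F, s = 0) {e : ℕ} (f : F ⟶ FlatMod.freeMod X e) [Mono f]
    {c : ℤ} (hdvd : ∀ G : X.Modules, Coh.IsCoh G → c ∣ deg k H' G) (hdeg : deg k H' F = -c) (hc : 0 < c)
    (ψ : F ⟶ F) (hψ : ψ ≠ 0) : Mono ψ := by
  have := SnapperTwist.isNoetherian_of_proper k X
  have hd : topologicalKrullDim X ≤ (2 : ℕ) := hdim.le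
  by_contra hm
  have hK : Coh.IsCoh (kernel ψ) := Sga67.CohBasic.isCoh_kernel ψ hF hF.1
  have hcok : Coh.IsCoh (cokernel ψ) := Sga67.CohBasic.isCoh_cokernel ψ hF.1 hF
  have hI : Coh.IsCoh (Abelian.image ψ) := Sga67.CohBasic.isCoh_kernel (cokernel.π ψ) hF hcok.1
  have hKne : ¬ IsZero (kernel ψ) := fun hz => hm (Preadditive.mono_of_isZero_kernel ψ hz)
  have hIne : ¬ IsZero (Abelian.image ψ) := fun hz => hψ (by
    rw [← Abelian.image.fac ψ, hz.eq_zero_of_tgt (Abelian.factorThruImage ψ), zero_comp])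
  have h1 := SubFree.deg_neg k hdim hn hH hHH' hH' hF hFf h0 hK (kernel.ι ψ) (kernel.ι ψ ≫ f) hKne
  have h2 := SubFree.deg_neg k hdim hn hH hHH' hH' hF hFf h0 hI (Abelian.image.ι ψ) (Abelian.image.ι ψ ≫ f) hIne
  have h3 := isAdd_deg k hd hH' _ (Ega3B.Devissage.image_ses₁ ψ) hK hF hI
  dsimp only at h3
  rw [hdeg] at h3
  obtain ⟨a, ha⟩ := hdvd _ hK
  obtain ⟨b, hb⟩ := hdvd _ hI
  rw [ha] at h1 h3
  rw [hb] at h2 h3
  have ha1 : a ≤ -1 := by
    by_contra hcon
    have : 0 ≤ a := by omega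
    exact absurd h1 (not_lt.mpr (mul_nonneg hc.le this))
  have hb1 : b ≤ -1 := by
    by_contra hcon
    have : 0 ≤ b := by omega
    exact absurd h2 (not_lt.mpr (mul_nonneg hc.le this))
  nlinarith

variable [IsAlgClosed k]

/-- Endomorphisms of a stable module are scalars. -/
theorem scalar (hdim : topologicalKrullDim X = 2) (hn : ∀ x : X, IsIntegrallyClosed (X.presheaf.stalk x))
    {H H' : X.Modules} (hH : CohB1.IsAmple H)
    (hHH' : Nonempty (CohB1.tensorMod H H' ≅ Coh.structureModule X)) (hH' : PicF.IsInvertible H')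
    {F : X.Modules} (hF : Coh.IsCoh F) (hFf : FlatMod.IsFinLocFree F)
    (h0 : ∀ s : Coh.structureModule X ⟶ F, s = 0) {e : ℕ} (f : F ⟶ FlatMod.freeMod X e) [Mono f]
    {c : ℤ} (hdvd : ∀ G : X.Modules, Coh.IsCoh G → c ∣ deg k H' G) (hdeg : deg k H' F = -c) (hc : 0 < c)
    (φ : F ⟶ F) : ∃ a : k, φ = a • 𝟙 F := by
  by_cases hz : IsZero F
  · exact ⟨0, hz.eq_of_src _ _⟩
  · have hfin : Module.Finite k (F ⟶ F) := K792.HomFin.finite_hom k F F hF hF
    obtain ⟨a, ha⟩ := EndScal.exists_not_mono k hz φ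
    refine ⟨a, ?_⟩
    by_contra hne
    exact ha (mono_of_ne_zero k hdim hn hH hHH' hH' hF hFf h0 f hdvd hdeg hc _ (sub_ne_zero.mpr hne))

end K462.Scalar
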