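import Groth.Agent.Surf.K462.LMChi
import Groth.Agent.Surf.K462.HFree
import Groth.Agent.Surf.K462.Scalar
import Groth.Agent.VBCurve.K707.Base
import Groth.Agent.CycB.ClosedDev
import Groth.Agent.PicGrp.K858.Basic
import Groth.Agent.S1530
import Groth.Agent.FormalB.PullCoh

/-!
# Removing base points
-/

set_option autoImplicit false
universe u
open CategoryTheory CategoryTheory.Limits AlgebraicGeometry TopologicalSpace Opposite

namespace K462.BN

open Groth.Agent Groth.Agent.Fga Groth.Agent.VarietyA.EulerLES K462.Deg K462.CohLES K462.LMCoh K462.LM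
open Groth.Agent.CurvesB.HZero Groth.Agent.Dcoh.FinLocFree

section ev

variable (k : Type u) [Field k] {X : Scheme.{u}} [X.Over (Spec (CommRingCat.of k))]
  [IsProper (X ↘ Spec (CommRingCat.of k))]

/-- The evaluation map of a coherent module: an isomorphism on global sections. -/
theorem exists_ev (h0 : Module.finrank k (Coh.HH X (Coh.structureModule X) 0) = 1) {M : X.Modules}
    (hM : Coh.IsCoh M) : ∃ ev : FlatMod.freeMod X (Module.finrank k (Coh.HH X M 0)) ⟶ M,
      Function.Bijective (mapA k ev 0) := by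
  have := SnapperTwist.isNoetherian_of_proper k X
  have hf := HodgeSec.finite_HH' k hM 0
  have hf2 := HodgeSec.finite_HH' k (isCoh_freeMod (X := X) (Module.finrank k (Coh.HH X M 0))) 0
  let b := Module.finBasis k (Coh.HH X M 0)
  let s : Fin (Module.finrank k (Coh.HH X M 0)) → Γ(M, ⊤) := fun i => equivAdd M (b i)
  refine ⟨freeDesc s, ?_⟩
  have hdim : Module.finrank k (Coh.HH X (FlatMod.freeMod X (Module.finrank k (Coh.HH X M 0))) 0) =
      Module.finrank k (Coh.HH X M 0) := by
    rw [HFree.finrank_freeMod k, h0, mul_one]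
  have hsurj : Function.Surjective (mapA k (freeDesc s) 0) := by
    rw [← LinearMap.range_eq_top, eq_top_iff, ← b.span_eq, Submodule.span_le]
    rintro _ ⟨i, rfl⟩
    refine ⟨(equivAdd _).symm (freeSec (𝟙 _) i), ?_⟩
    apply (equivAdd M).injective
    refine (equivAdd_map (freeDesc s) _).trans ?_
    rw [AddEquiv.apply_symm_apply, ← freeSec_comp, Category.id_comp, freeSec_freeDesc]
  exact ⟨(LinearMap.injective_iff_surjective_of_finrank_eq_finrank hdim).mpr hsurj, hsurj⟩

omit [IsProper (X ↘ Spec (CommRingCat.of k))] in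
/-- The image of the evaluation map has the same global sections. -/
theorem image_ev {E M : X.Modules} (ev : E ⟶ M) (h : Function.Bijective (mapA k ev 0)) :
    Function.Bijective (mapA k (Abelian.factorThruImage ev) 0) ∧
      Function.Bijective (mapA k (Abelian.image.ι ev) 0) := by
  have hS : (ShortComplex.mk (Abelian.image.ι ev) (cokernel.π (Abelian.image.ι ev))
      (cokernel.condition _)).ShortExact :=
    { exact := ShortComplex.exact_cokernel _
      mono_f := inferInstance
      epi_g := inferInstance }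
  have hinj := injectiveA₀ k _ hS
  dsimp only at hinj
  have hc := mapA_comp k (Abelian.factorThruImage ev) (Abelian.image.ι ev) 0
  rw [Abelian.image.fac] at hc
  have hc' : ∀ x, mapA k ev 0 x = mapA k (Abelian.image.ι ev) 0 (mapA k (Abelian.factorThruImage ev) 0 x) :=
    fun x => LinearMap.congr_fun hc x
  refine ⟨⟨fun x y hxy => h.1 ?_, fun y => ?_⟩, hinj, fun y => ?_⟩
  · rw [hc', hc', hxy]
  · obtain ⟨x, hx⟩ := h.2 (mapA k (Abelian.image.ι ev) 0 y)
    exact ⟨x, hinj (by rw [← hc', hx])⟩
  · obtain ⟨x, hx⟩ := h.2 y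
    exact ⟨_, (hc' x).symm.trans hx⟩

end ev

theorem adj_aux {𝒞 𝒟 : Type*} [Category 𝒞] [Category 𝒟] {F : 𝒞 ⥤ 𝒟} {G : 𝒟 ⥤ 𝒞} (adj : F ⊣ G) [G.Faithful]
    {M : 𝒞} {A : 𝒟} (j : M ⟶ G.obj A) [Mono j] (h : IsIso (adj.unit.app M)) :
    ∃ j' : F.obj M ⟶ A, Mono j' := by
  have h1 : adj.unit.app M ≫ G.map ((adj.homEquiv M A).symm j) = j := by
    have h0 := (adj.homEquiv M A).apply_symm_apply j
    rwa [Adjunction.homEquiv_unit] at h0
  have h2 : G.map ((adj.homEquiv M A).symm j) = inv (adj.unit.app M) ≫ j := by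
    rw [IsIso.eq_inv_comp, h1]
  have h3 : Mono (G.map ((adj.homEquiv M A).symm j)) := by
    rw [h2]
    infer_instance
  exact ⟨_, G.mono_of_mono_map h3⟩

section closed

variable {X C : Scheme.{u}} (i : C ⟶ X) [IsClosedImmersion i]

/-- A submodule of a direct image along a closed immersion is a direct image. -/
theorem isIso_unit_of_mono {M : X.Modules} {A : C.Modules} (j : M ⟶ (Scheme.Modules.pushforward i).obj A) [Mono j] :
    IsIso ((Scheme.Modules.pullbackPushforwardAdjunction i).unit.app M) := by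
  have h1 : Epi ((Scheme.Modules.pullbackPushforwardAdjunction i).unit.app M) := CycB.ClosedDev.epi_unit i M
  have h2 : IsIso ((Scheme.Modules.pullbackPushforwardAdjunction i).unit.app
    ((Scheme.Modules.pushforward i).obj A)) := CycB.ClosedDev.isIso_unit_push i A
  have h3 := (Scheme.Modules.pullbackPushforwardAdjunction i).unit.naturality j
  have h4 : Mono ((Scheme.Modules.pullbackPushforwardAdjunction i).unit.app M) := by
    have h5 : Mono ((Scheme.Modules.pullbackPushforwardAdjunction i).unit.app M ≫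
        (Scheme.Modules.pullback i ⋙ Scheme.Modules.pushforward i).map j) := by
      rw [← h3]
      infer_instance
    exact mono_of_mono _ ((Scheme.Modules.pullback i ⋙ Scheme.Modules.pushforward i).map j)
  exact isIso_of_mono_of_epi _

/-- The corresponding map downstairs is a monomorphism. -/
theorem exists_mono {M : X.Modules} {A : C.Modules} (j : M ⟶ (Scheme.Modules.pushforward i).obj A) [Mono j] :
    ∃ j' : (Scheme.Modules.pullback i).obj M ⟶ A, Mono j' := by
  have h1 := isIso_unit_of_mono i j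
  have := CohqA.ClosedPush.faithful (i := i)
  exact adj_aux (Scheme.Modules.pullbackPushforwardAdjunction i) j h1

end closed

section curve

variable (k : Type u) [Field k] {C : Scheme.{u}} [C.Over (Spec (CommRingCat.of k))]
  [IsProper (C ↘ Spec (CommRingCat.of k))] [IsIntegral C] (hC : topologicalKrullDim C = 1)

include hC

/-- A nonzero coherent submodule of an invertible module on a regular curve is invertible with larger `h^1`. -/
theorem sub_invertible (hP : ∀ x : C, IsPrincipalIdealRing (C.presheaf.stalk x)) {A A' : C.Modules}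
    (hA : PicF.IsInvertible A) (hA' : Coh.IsCoh A') (j : A' ⟶ A) [Mono j] (hne : ¬ IsZero A') :
    PicF.IsInvertible A' ∧ Module.finrank k (Coh.HH C A 1) ≤ Module.finrank k (Coh.HH C A' 1) := by
  have := SnapperTwist.isNoetherian_of_proper k C
  have hAc : Coh.IsCoh A := HodgeSec.isCoh_of_isInvertible hA
  have hAf := isFinLocFree_of_isInvertible hA
  have hT : Coh.IsCoh (cokernel j) := Sga67.CohBasic.isCoh_cokernel j hA'.1 hAc
  have hS : (ShortComplex.mk j (cokernel.π j) (cokernel.condition j)).ShortExact :=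
    { exact := ShortComplex.exact_cokernel j
      mono_f := inferInstance
      epi_g := inferInstance }
  have hrA : VarietyA.DegRank.rk A = 1 := K848.Hull.rk_structureModule_of_isInvertible hA
  have hadd := VarietyA.DegRank.rk_add _ hS hAc
  dsimp only at hadd
  have hfree := K707.Base.isFinLocFreeOfRank_of_mono hP j hA' hAf
  have hpos : VarietyA.DegRank.rk A' ≠ 0 := by
    intro h0
    rw [h0] at hfree
    exact hne (Krr.H495.Rank.isZero_of_rank_zero hfree)
  have h1 : VarietyA.DegRank.rk A' = 1 := by omega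
  have h2 : VarietyA.DegRank.rk (cokernel j) = 0 := by omega
  rw [h1] at hfree
  refine ⟨fun x => ?_, ?_⟩
  · obtain ⟨U, hx, ⟨e⟩⟩ := hfree x
    exact ⟨U, hx, ⟨e ≪≫ (Ega2.QCohLocal.freeModOneIso (↑U : Scheme.{u})).symm⟩⟩
  · have hη : genericPoint C ∉ CohB1.support (cokernel j) := by
      rw [CohqB.DevSupport.not_mem_support_iff]
      have hfin : Module.Finite C.functionField ((cokernel j).presheaf.stalk (genericPoint C)) :=
        Divis.StalkMod.finite_stalk hT _
      exact Module.finrank_zero_iff.mp h2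
    have hd := VarietyA.DegRank.dim_support_le_zero hC.le _ hT hη
    have h3 : Subsingleton (Coh.HH C (cokernel j) 1) :=
      HodgeSec.subsingleton_HH_of_support k hT 0 hd 1 Nat.zero_lt_one
    have hf := HodgeSec.finite_HH' k hA' 1
    have hsurj : Function.Surjective (mapA k j 1) := by
      intro y
      exact (exact₂ _ hS 1 y).mp (@Subsingleton.elim _ h3 _ _)
    exact LinearMap.finrank_le_finrank_of_surjective hsurj

end curve

section scal

variable (k : Type u) [Field k] [IsAlgClosed k] [CharZero k] {X : Scheme.{u}} [X.Over (Spec (CommRingCat.of k))]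
  [IsIntegral X] [Smooth (X ↘ Spec (CommRingCat.of k))] (hdim : topologicalKrullDim X = 2)
  [IsProper (X ↘ Spec (CommRingCat.of k))] {H : X.Modules} (hHa : CohB1.IsAmple H) [PicGrp.Law X]
  {C : Scheme.{u}} [C.Over (Spec (CommRingCat.of k))] [IsIntegral C]
  [Smooth (C ↘ Spec (CommRingCat.of k))] (hC : topologicalKrullDim C = 1)
  (i : C ⟶ X) [IsClosedImmersion i] (hi : i ≫ (X ↘ Spec (CommRingCat.of k)) = C ↘ Spec (CommRingCat.of k))
  (hI : PicF.IsInvertible (ClSub.idealMod i.ker))
  (hgen : ∀ c : PicLoc.PicSet X, ∃ n : ℤ, c = PicGrp.cls (ClSub.idealMod i.ker) hI ^ n)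
  {A : C.Modules} (hA : PicF.IsInvertible A) {e : ℕ}
  (lam : FlatMod.freeMod X e ⟶ (Coh.push i).obj A) [Epi lam]
  (hlam : Function.Bijective (Sheaf.H.map ((SheafOfModules.toSheaf _).map lam) 0))

attribute [local instance] Groth.Agent.CurvesC.LinMod.linearModules

include hdim hHa hC hi hgen hA hlam

omit [Smooth (C ↘ Spec (CommRingCat.of k))] in
/-- Endomorphisms of a Lazarsfeld–Mukai bundle are scalars. -/
theorem end_scalar (φ : kernel lam ⟶ kernel lam) : ∃ a : k, φ = a • 𝟙 _ := by
  have := SnapperTwist.isNoetherian_of_proper k X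
  obtain ⟨H', hH', hHH'⟩ := Grpsch.PicGrp.exists_inverse hHa.1
  have hn : ∀ x : X, IsIntegrallyClosed (X.presheaf.stalk x) := fun x => by
    have h2 := Groth.Agent.S1535.result k X x
    have h3 : IsDomain (X.presheaf.stalk x) := inferInstance
    have := Groth.Agent.Dix.RegTwoDim.ufd (K464.Curves.ringKrullDim_stalk_le hdim.le x)
    infer_instance
  have hgen' : ∀ b : Grpsch.PicGrp.Pic X, ∃ n : ℤ, b = Grpsch.PicGrp.mk (ClSub.idealMod i.ker) hI ^ n := fun b => by
    obtain ⟨n, hn⟩ := hgen (K858.Basic.ofPic X b)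
    refine ⟨n, (K858.Basic.ofPic X).injective ?_⟩
    rw [hn, map_zpow, K858.Basic.ofPic_mk]
  exact Scalar.scalar k hdim hn hHa hHH' hH' (isCoh_F k i hi hA lam)
    (isFinLocFree_F k i hi hdim hC hA lam) (hom_unit_kernel lam hlam.injective) (kernel.ι lam)
    (fun G hG => DivDeg.dvd_deg k hdim hH' hgen' hG) (deg_F k i hi hdim hC hI hH' hA lam)
    (dot_pos k i hdim hC hI hHa hHH' hH') φ

omit [Smooth (C ↘ Spec (CommRingCat.of k))] in
/-- The endomorphism algebra of a Lazarsfeld–Mukai bundle is at most one-dimensional. -/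
theorem finrank_end_le : Module.finrank k (Coh.HH X (RefHull.homSh (kernel lam) (kernel lam)) 0) ≤ 1 := by
  have e1 := (equivA k (HomCmp.cmpIso (kernel lam) (kernel lam)) 0).finrank_eq
  rw [e1, (K792.HomFin.homLin k (kernel lam) (kernel lam)).finrank_eq]
  refine finrank_le_one (𝟙 (kernel lam)) fun φ => ?_
  obtain ⟨a, ha⟩ := end_scalar k hdim hHa hC i hi hI hgen hA lam hlam φ
  exact ⟨a, ha.symm⟩

end scal

section main

variable (k : Type u) [Field k] [IsAlgClosed k] {X : Scheme.{u}} [X.Over (Spec (CommRingCat.of k))]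
  [IsIntegral X] [IsProper (X ↘ Spec (CommRingCat.of k))]
  {C : Scheme.{u}} [C.Over (Spec (CommRingCat.of k))] [IsIntegral C]
  [Smooth (C ↘ Spec (CommRingCat.of k))] (hC : topologicalKrullDim C = 1)
  (i : C ⟶ X) [IsClosedImmersion i] (hi : i ≫ (X ↘ Spec (CommRingCat.of k)) = C ↘ Spec (CommRingCat.of k))

include hC hi

/-- Reduction to globally generated modules. -/
theorem exists_lam {A : C.Modules} (hA : PicF.IsInvertible A) (hne : Module.finrank k (Coh.HH C A 0) ≠ 0) :
    ∃ (A' : C.Modules) (lam : FlatMod.freeMod X (Module.finrank k (Coh.HH C A' 0)) ⟶ (Coh.push i).obj A'),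
      PicF.IsInvertible A' ∧ Epi lam ∧
      Function.Bijective (Sheaf.H.map ((SheafOfModules.toSheaf _).map lam) 0) ∧
      Module.finrank k (Coh.HH C A 0) = Module.finrank k (Coh.HH C A' 0) ∧
      Module.finrank k (Coh.HH C A 1) ≤ Module.finrank k (Coh.HH C A' 1) := by
  have := SnapperTwist.isNoetherian_of_proper k X
  have := isProper_C k X C i hi
  have := SnapperTwist.isNoetherian_of_proper k C
  have hM := isCoh_push k i hi hA
  have h0 := VarietyA.CurveFin.finrank_h0_structure k X
  obtain ⟨ev, hev⟩ := exists_ev k h0 hM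
  obtain ⟨hp, hj⟩ := image_ev k ev hev
  have hcoh : Coh.IsCoh (Abelian.image ev) :=
    Sga67.CohBasic.isCoh_kernel _ hM (Sga67.CohBasic.isCoh_cokernel ev (isCoh_freeMod _).1 hM).1
  let A' := (Scheme.Modules.pullback i).obj (Abelian.image ev)
  have hA'c : Coh.IsCoh A' := FormalB.PullCoh.isCoh_pullback i hcoh
  have hu := isIso_unit_of_mono i (Abelian.image.ι ev)
  obtain ⟨j', hj'⟩ := exists_mono i (Abelian.image.ι ev)
  let u : Abelian.image ev ≅ (Coh.push i).obj A' :=
    @asIso _ _ _ _ ((Scheme.Modules.pullbackPushforwardAdjunction i).unit.app (Abelian.image ev)) hu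
  have e1 : Module.finrank k (Coh.HH X ((Coh.push i).obj A) 0) = Module.finrank k (Coh.HH C A 0) :=
    CurvesC.DegIso.finrank_push k i hi A 0
  have e2 : Module.finrank k (Coh.HH X ((Coh.push i).obj A') 0) = Module.finrank k (Coh.HH C A' 0) :=
    CurvesC.DegIso.finrank_push k i hi A' 0
  have e3 := (LinearEquiv.ofBijective _ hj).finrank_eq
  rw [(equivA k u 0).finrank_eq, e2, e1] at e3
  have hne' : ¬ IsZero A' := by
    intro hz
    have := subsingleton_of_isZero hz 0
    apply hne
    rw [← e3]
    exact Module.finrank_zero_of_subsingleton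
  have hP : ∀ x : C, IsPrincipalIdealRing (C.presheaf.stalk x) := fun x => by
    have h2 := Groth.Agent.S1535.result k C x
    exact Divis.ReflexAlg.isPrincipalIdealRing_of_isRegularLocalRing (by
      refine le_trans ?_ hC.le
      rw [Groth.Agent.Dix.ContractSurf.topologicalKrullDim_eq]
      exact le_iSup (fun x : C => ringKrullDim (C.presheaf.stalk x)) x)
  obtain ⟨hA', h1⟩ := sub_invertible k hC hP hA hA'c j' hne'
  have hr : Module.finrank k (Coh.HH X ((Coh.push i).obj A) 0) = Module.finrank k (Coh.HH C A' 0) := by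
    rw [e1, e3]
  let c : FlatMod.freeMod X (Module.finrank k (Coh.HH C A' 0)) ≅
      FlatMod.freeMod X (Module.finrank k (Coh.HH X ((Coh.push i).obj A) 0)) := eqToIso (by rw [hr])
  refine ⟨A', c.hom ≫ Abelian.factorThruImage ev ≫ u.hom, hA', inferInstance, ?_, e3.symm, h1⟩
  have b1 : Function.Bijective (mapA k c.hom 0) := (equivA k c 0).bijective
  have b2 : Function.Bijective (mapA k u.hom 0) := (equivA k u 0).bijective
  have b3 : Function.Bijective (mapA k (c.hom ≫ Abelian.factorThruImage ev ≫ u.hom) 0) := by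
    rw [mapA_comp, mapA_comp, LinearMap.coe_comp, LinearMap.coe_comp]
    exact (b2.comp hp).comp b1
  exact b3

end main

section le

variable (k : Type u) [Field k] {X : Scheme.{u}} [X.Over (Spec (CommRingCat.of k))]
  [IsIntegral X] [IsProper (X ↘ Spec (CommRingCat.of k))] [Smooth (X ↘ Spec (CommRingCat.of k))]
  (hdim : topologicalKrullDim X = 2)
  (hK : Canon.IsTopDiff (X ↘ Spec (CommRingCat.of k)) 2 (Coh.structureModule X))

include hdim hK

/-- `χ(End F) ≤ 2 h^0(End F)`. -/
theorem euler_end_le {F : X.Modules} (hF : FlatMod.IsFinLocFree F) :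
    Curv2.euler k X (RefHull.homSh F F) ≤ 2 * (Module.finrank k (Coh.HH X (RefHull.homSh F F) 0) : ℤ) := by
  have h2 := finrank_end k hdim hK hF 0 2 rfl
  rw [(equivA k (HomMon.kap hF F) 2).finrank_eq] at h2
  rw [← Num.eulerLE_eq k X hdim.le]
  unfold FGA.eulerCharLE
  simp only [Finset.sum_range_succ, Finset.sum_range_zero, h2]
  have h1 : (0 : ℤ) ≤ (Module.finrank k (Coh.HH X (RefHull.homSh F F) 1) : ℤ) := Int.natCast_nonneg _
  linarith

end le

end K462.BN
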