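import Groth.Agent.Surf.K462.DivDeg
import Groth.Agent.Surf.K462.SubFree
import Groth.Agent.S15848
import Groth.Agent.Dcoh.FreeSec
import Groth.Agent.CurvesB.HZero
import Groth.Agent.Fga.MultForm

/-!
# Lazarsfeld–Mukai bundles: first properties

`X` smooth proper integral surface, `i : C → X` an integral curve, `A` invertible on `C`, `lam : O^e → i_* A`
an epimorphism which is injective on global sections, `F = ker lam`.

* `hom_unit_kernel` : `Hom(O, F) = 0`.
* `isCoh_push`, `isCoh_F`, `isFinLocFree_F`.
* `intNum_push` : the degree of `i_* A` is `(I_C · H')`; `deg_F`.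
-/

set_option autoImplicit false
universe u
open CategoryTheory CategoryTheory.Limits AlgebraicGeometry TopologicalSpace Opposite

namespace K462.LM

open Groth.Agent Groth.Agent.Fga Groth.Agent.Grpsch.PicGrp K464.Base K464.Curves K848.Hull K462.Deg
open Groth.Agent.Dcoh.FreeSec Groth.Agent.CurvesB.HZero

/-- The kernel of a map injective on global sections has no global sections. -/
theorem hom_unit_kernel {X : Scheme.{u}} {E G : X.Modules} (lam : E ⟶ G)
    (hlam : Function.Injective (Sheaf.H.map ((SheafOfModules.toSheaf _).map lam) 0))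
    (s : Coh.structureModule X ⟶ kernel lam) : s = 0 := by
  rw [← cancel_mono (kernel.ι lam), zero_comp]
  apply hom_unit_ext
  change (s ≫ kernel.ι lam).app ⊤ (one X) = 0
  let m : Γ(E, ⊤) := (s ≫ kernel.ι lam).app ⊤ (one X)
  have h1 := equivAdd_map lam ((equivAdd E).symm m)
  rw [AddEquiv.apply_symm_apply] at h1
  have h2 : lam.app ⊤ m = 0 := by
    change ((s ≫ kernel.ι lam) ≫ lam).app ⊤ (one X) = 0
    rw [Category.assoc, kernel.condition, comp_zero]
    rfl
  rw [h2] at h1
  have h3 : Sheaf.H.map ((SheafOfModules.toSheaf X.ringCatSheaf).map lam) 0 ((equivAdd E).symm m) = 0 :=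
    (equivAdd G).injective (by rw [h1, map_zero])
  have h4 : (equivAdd E).symm m = 0 := hlam (by
    rw [h3]
    exact (map_zero (Sheaf.H.map ((SheafOfModules.toSheaf X.ringCatSheaf).map lam) 0)).symm)
  have h5 : m = 0 := by
    rw [← (equivAdd E).apply_symm_apply m, h4, map_zero]
  exact h5

theorem isFinLocFree_of_isInvertible {X : Scheme.{u}} {L : X.Modules} (hL : PicF.IsInvertible L) :
    FlatMod.IsFinLocFree L := by
  intro x
  obtain ⟨U, hU, ⟨e⟩⟩ := hL x
  refine ⟨U, 1, hU, ⟨e ≪≫ ?_⟩⟩
  exact (Limits.coproductUniqueIso (fun _ : Fin 1 => Coh.structureModule (↑U : Scheme.{u}))).symm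

section coh

variable (k : Type u) [Field k] (X : Scheme.{u}) [X.Over (Spec (CommRingCat.of k))]
  [IsProper (X ↘ Spec (CommRingCat.of k))] (C : Scheme.{u}) [C.Over (Spec (CommRingCat.of k))]
  (i : C ⟶ X) [IsClosedImmersion i] (hi : i ≫ (X ↘ Spec (CommRingCat.of k)) = C ↘ Spec (CommRingCat.of k))

include X i hi in
theorem isProper_C : IsProper (C ↘ Spec (CommRingCat.of k)) := by
  rw [← hi]
  infer_instance

variable {X C}

include k hi in
/-- The direct image of an invertible module is coherent. -/
theorem isCoh_push {A : C.Modules} (hA : PicF.IsInvertible A) : Coh.IsCoh ((Coh.push i).obj A) := by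
  have := isProper_C k X C i hi
  have := SnapperTwist.isNoetherian_of_proper k X
  have := SnapperTwist.isNoetherian_of_proper k C
  exact S0019.result i _ (HodgeSec.isCoh_of_isInvertible hA)

omit [X.Over (Spec (CommRingCat.of k))] [IsProper (X ↘ Spec (CommRingCat.of k))] [C.Over (Spec (CommRingCat.of k))] in
/-- The ideal of an integral curve. -/
theorem isCurve_ker [IsIntegral C] (hC : topologicalKrullDim C = 1) : IsCurve i.ker := by
  have e : C ≅ i.ker.subscheme := asIso i.toImage
  have : Nonempty i.ker.subscheme := ⟨e.hom (genericPoint C)⟩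
  refine ⟨isIntegral_of_isOpenImmersion e.inv, ?_⟩
  rw [Scheme.Hom.support_ker, i.isClosedEmbedding.isClosed_range.closure_eq]
  rw [← hC]
  exact (i.isClosedEmbedding.isEmbedding.toHomeomorph.isHomeomorph.topologicalKrullDim_eq _).symm

omit [X.Over (Spec (CommRingCat.of k))] [IsProper (X ↘ Spec (CommRingCat.of k))] [C.Over (Spec (CommRingCat.of k))] in
theorem range_eq_closure [IsIntegral C] : Set.range i = closure {i (genericPoint C)} := by
  have h1 : closure {genericPoint C} = (Set.univ : Set C) := genericPoint_spec _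
  have h2 := i.isClosedEmbedding.isClosedMap.closure_image_eq_of_continuous i.continuous {genericPoint C}
  rw [Set.image_singleton, h1, Set.image_univ] at h2
  exact h2.symm

omit [X.Over (Spec (CommRingCat.of k))] [IsProper (X ↘ Spec (CommRingCat.of k))] [C.Over (Spec (CommRingCat.of k))] in
theorem gp_ker [IsIntegral C] (hC : topologicalKrullDim C = 1) : gp (isCurve_ker i hC) = i (genericPoint C) := by
  have h3 : closure {gp (isCurve_ker i hC)} = closure {i (genericPoint C)} := by
    rw [closure_gp, Scheme.Hom.support_ker, i.isClosedEmbedding.isClosed_range.closure_eq, range_eq_closure]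
  exact (inseparable_iff_closure_eq.2 h3).eq

omit [X.Over (Spec (CommRingCat.of k))] [IsProper (X ↘ Spec (CommRingCat.of k))] [C.Over (Spec (CommRingCat.of k))] in
theorem genericPoint_notMem [IsIntegral X] (hdim : topologicalKrullDim X = 2) [IsIntegral C]
    (hC : topologicalKrullDim C = 1) : genericPoint X ∉ Set.range i := by
  intro h
  have h2 : Set.range i = Set.univ := by
    refine Set.eq_univ_of_univ_subset ?_
    rw [← genericPoint_closure (α := X)]
    exact closure_minimal (Set.singleton_subset_iff.mpr h) i.isClosedEmbedding.isClosed_range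
  have h3 : topologicalKrullDim C = topologicalKrullDim (Set.range i) :=
    i.isClosedEmbedding.isEmbedding.toHomeomorph.isHomeomorph.topologicalKrullDim_eq _
  have h4 : topologicalKrullDim (Set.univ : Set X) = topologicalKrullDim X :=
    (Homeomorph.Set.univ X).isHomeomorph.topologicalKrullDim_eq _
  rw [h2, h4, hC, hdim] at h3
  exact absurd h3 (by decide)

omit [C.Over (Spec (CommRingCat.of k))] in
/-- The degree of the direct image of an invertible module. -/
theorem intNum_push [IsIntegral C] (hdim : topologicalKrullDim X ≤ (2 : ℕ)) (hC : topologicalKrullDim C = 1)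
    {A : C.Modules} (hA : PicF.IsInvertible A) (hAc : Coh.IsCoh ((Coh.push i).obj A)) {H' : X.Modules}
    (hH' : PicF.IsInvertible H') :
    FGA.intNum k X 2 ![H'] ((Coh.push i).obj A) = FGA.intNum k X 2 ![H'] (ClSub.quotMod i.ker) := by
  have := SnapperTwist.isNoetherian_of_proper k X
  have hcur := isCurve_ker i hC
  have := hcur.integral
  have hy := gp_ker i hC
  have hr := range_eq_closure i
  have hdy : topologicalKrullDim (closure {i (genericPoint C)} : Set X) < ((1 + 1 : ℕ) : WithBot ℕ∞) := by
    have h3 : topologicalKrullDim C = topologicalKrullDim (Set.range i) :=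
      i.isClosedEmbedding.isEmbedding.toHomeomorph.isHomeomorph.topologicalKrullDim_eq _
    rw [← hr, ← h3, hC]
    exact WithBot.coe_lt_coe.mpr (ENat.natCast_lt_natCast.mpr (Nat.lt_succ_self 1))
  have hG₀ : Coh.IsCoh (ClSub.quotMod i.ker) :=
    S0019.result i.ker.subschemeι _ (Fdesc.StructMod.isCoh_structureModule _)
  have hrange : Set.range i.ker.subschemeι = closure {i (genericPoint C)} := by
    rw [i.ker.range_subschemeι, Scheme.Hom.support_ker, i.isClosedEmbedding.isClosed_range.closure_eq, hr]
  have hs₀ : IsSimpleModule (X.presheaf.stalk (i (genericPoint C)))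
      ((ClSub.quotMod i.ker).presheaf.stalk (i (genericPoint C))) := by
    have h := DivDeg.isSimple_push i.ker.subschemeι
    rw [show i.ker.subschemeι (genericPoint i.ker.subscheme) = i (genericPoint C) from hy] at h
    exact h
  have hs : IsSimpleModule (X.presheaf.stalk (i (genericPoint C)))
      (((Coh.push i).obj A).presheaf.stalk (i (genericPoint C))) := by
    obtain ⟨U, hU, hUe⟩ := hA (genericPoint C)
    have : Nonempty U := ⟨⟨_, hU⟩⟩
    exact CohqB.DevSimple.isSimpleModule_stalk_push i A U hUe
  have h0 : ∀ G : X.Modules, Coh.IsCoh G → CohB1.support G ⊆ closure {i (genericPoint C)} →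
      i (genericPoint C) ∉ CohB1.support G → FGA.intNum k X 2 ![H'] G = 0 := by
    intro G hG hGs hGy
    refine DivDeg.intNum_one_eq_zero k X hdim hH' hG ?_
    refine DimLt.topologicalKrullDim_lt isIrreducible_singleton.closure (Ega3B.Devissage.isClosed_support hG) hGs
      (fun h => hGy ?_) hdy
    rw [h]
    exact subset_closure rfl
  have key := MultForm.length_formula (fun F : X.Modules => FGA.intNum k X 2 ![H'] F)
    (Num.isAdd_intNum_one k X hdim hH') (i (genericPoint C)) h0 (ClSub.quotMod i.ker) hG₀
    ((CohqB.DevSimple.support_push_subset_range i.ker.subschemeι _).trans hrange.le) hs₀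
    ((Coh.push i).obj A) hAc ((CohqB.DevSimple.support_push_subset_range i _).trans hr.le)
  rw [Module.length_eq_one_iff.mpr hs] at key
  simpa using key

end coh

section main

variable (k : Type u) [Field k] [IsAlgClosed k] [CharZero k] {X : Scheme.{u}} [X.Over (Spec (CommRingCat.of k))]
  [IsProper (X ↘ Spec (CommRingCat.of k))] [IsIntegral X] [Smooth (X ↘ Spec (CommRingCat.of k))]
  {C : Scheme.{u}} [C.Over (Spec (CommRingCat.of k))] [IsIntegral C]
  (i : C ⟶ X) [IsClosedImmersion i] (hi : i ≫ (X ↘ Spec (CommRingCat.of k)) = C ↘ Spec (CommRingCat.of k))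

include k hi in
omit [IsAlgClosed k] [CharZero k] [IsIntegral C] [IsIntegral X] [Smooth (X ↘ Spec (CommRingCat.of k))] in
/-- The kernel is coherent. -/
theorem isCoh_F {A : C.Modules} (hA : PicF.IsInvertible A) {e : ℕ}
    (lam : FlatMod.freeMod X e ⟶ (Coh.push i).obj A) : Coh.IsCoh (kernel lam) := by
  have := SnapperTwist.isNoetherian_of_proper k X
  exact Sga67.CohBasic.isCoh_kernel lam (isCoh_freeMod e) (isCoh_push k i hi hA).1

include k hi in
/-- The kernel is locally free. -/
theorem isFinLocFree_F (hdim : topologicalKrullDim X = 2) (hC : topologicalKrullDim C = 1)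
    {A : C.Modules} (hA : PicF.IsInvertible A) {e : ℕ}
    (lam : FlatMod.freeMod X e ⟶ (Coh.push i).obj A) [Epi lam] : FlatMod.IsFinLocFree (kernel lam) := by
  have := isProper_C k X C i hi
  have := SnapperTwist.isNoetherian_of_proper k C
  have hAc : Coh.IsCoh A := HodgeSec.isCoh_of_isInvertible hA
  exact Groth.Agent.S15848.result k X hdim C i hC A hAc
    (SubFree.isTorsionFree_of_isFinLocFree hAc.1 (isFinLocFree_of_isInvertible hA)) _
    (Groth.Agent.Dcoh.FinLocFree.isFinLocFree_freeMod X e) lam

omit [IsAlgClosed k] [CharZero k] in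
include hi in
/-- The degree of the kernel. -/
theorem deg_F (hdim : topologicalKrullDim X = 2) (hC : topologicalKrullDim C = 1)
    (hI : PicF.IsInvertible (ClSub.idealMod i.ker)) {H' : X.Modules} (hH' : PicF.IsInvertible H')
    {A : C.Modules} (hA : PicF.IsInvertible A) {e : ℕ}
    (lam : FlatMod.freeMod X e ⟶ (Coh.push i).obj A) [Epi lam] :
    deg k H' (kernel lam) = - dot k X (mk (ClSub.idealMod i.ker) hI) (mk H' hH') := by
  have := SnapperTwist.isNoetherian_of_proper k X
  have hd : topologicalKrullDim X ≤ (2 : ℕ) := hdim.le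
  have hcoh := isCoh_push k i hi hA
  have hS : (ShortComplex.mk (kernel.ι lam) lam (kernel.condition lam)).ShortExact :=
    { exact := ShortComplex.exact_kernel lam
      mono_f := inferInstance
      epi_g := inferInstance }
  have h1 := isAdd_deg k hd hH' _ hS (isCoh_F k i hi hA lam) (isCoh_freeMod e) hcoh
  dsimp only at h1
  rw [deg_freeMod k hd hH'] at h1
  have hη : genericPoint X ∉ CohB1.support ((Coh.push i).obj A) := fun h =>
    genericPoint_notMem i hdim hC (CohqB.DevSimple.support_push_subset_range i _ h)
  have hCe := isEff_of_smooth k hdim (isCurve_ker i hC)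
  have h2 : mk (ClSub.idealMod i.ker) hI = ic i.ker hCe := rfl
  rw [deg_torsion k hη, intNum_push k i hd hC hA hcoh hH', DivDeg.intNum_one_quotMod k X hd hH' hCe] at h1
  rw [h2]
  linarith

omit [IsAlgClosed k] [CharZero k] [C.Over (Spec (CommRingCat.of k))] in
/-- The degree of the curve is positive. -/
theorem dot_pos (hdim : topologicalKrullDim X = 2) (hC : topologicalKrullDim C = 1)
    (hI : PicF.IsInvertible (ClSub.idealMod i.ker)) {H H' : X.Modules} (hH : CohB1.IsAmple H)
    (hHH' : Nonempty (CohB1.tensorMod H H' ≅ Coh.structureModule X)) (hH' : PicF.IsInvertible H') :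
    0 < dot k X (mk (ClSub.idealMod i.ker) hI) (mk H' hH') := by
  have hCe := isEff_of_smooth k hdim (isCurve_ker i hC)
  have h2 : mk (ClSub.idealMod i.ker) hI = ic i.ker hCe := rfl
  have h3 : mk H' hH' = (mk H hH.1)⁻¹ := by
    refine (inv_eq_of_mul_eq_one_right ?_).symm
    rw [mk_mul_mk]
    exact (mk_eq_iff _ _).mpr hHH'
  rw [h2, h3, dot_ic_eq, degOn_inv k (isCurve_ker i hC), neg_neg]
  exact degOn_pos_of_ample k (isCurve_ker i hC) hH.1 hH

end main

end K462.LM
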