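import Groth.Agent.Surf.K462.HomMon
import Groth.Agent.Surf.K461.SerreLF
import Groth.Agent.Picfga.CurveRelDim
import Groth.Agent.VarietyA.EulerLES
import Groth.Prelude.Def_Canon
import Groth.Agent.ASBun.K792.HomFin

/-!
# Duality for locally free modules on a surface with trivial canonical sheaf
-/

set_option autoImplicit false
universe u
open CategoryTheory CategoryTheory.Limits AlgebraicGeometry TopologicalSpace Opposite

namespace K462.K3LF

open Groth.Agent Groth.Agent.Fga

variable (k : Type u) [Field k] {X : Scheme.{u}} [X.Over (Spec (CommRingCat.of k))]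
    [IsProper (X ↘ Spec (CommRingCat.of k))] [Smooth (X ↘ Spec (CommRingCat.of k))] [IsIntegral X]

/-- Serre duality for locally free modules when the canonical sheaf is trivial. -/
theorem finrank_dual (hdim : topologicalKrullDim X = 2)
    (hK : Canon.IsTopDiff (X ↘ Spec (CommRingCat.of k)) 2 (Coh.structureModule X)) {F : X.Modules}
    (hF : FlatMod.IsFinLocFree F) (m p : ℕ) (h : m + p = 2) :
    Module.finrank k (Coh.HH X F p) = Module.finrank k (Coh.HH X (RefHull.dual F) m) := by
  have hsm : SmoothOfRelativeDimension 2 (X ↘ Spec (CommRingCat.of k)) :=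
    Picfga.CurveRelDim.smoothOfRelativeDimension_of_topologicalKrullDim_eq k X _ 2 hdim
  rw [K461.SerreLF.finrank_eq k 2 hK hF m p h]
  exact (VarietyA.EulerLES.equivA k (HomCmp.sheafHomIso F (Coh.structureModule X)) m).finrank_eq.symm

end K462.K3LF
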