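import Groth.Agent.Surf.K462.LM
import Groth.Agent.Surf.K462.CohLES
import Groth.Agent.Surf.K462.K3LF
import Groth.Agent.CohqB.HomPost
import Groth.Agent.Sga67.LocBasisOps

/-!
# Cohomology of Lazarsfeld–Mukai bundles on a K3 surface

* `h0_F`, `h1_F`, `h2_dual`, `h1_dual` : `H^0(F) = H^1(F) = 0 = H^2(F^∨) = H^1(F^∨)`.
* `finrank_two_end` : `h^2(F^∨ ⊗ F) = h^0(Hom(F, F))`.
* `finrank_one` : `h^1(F^∨ ⊗ i_* A) = h^0(Hom(F, F))`.
-/

set_option autoImplicit false
universe u
open CategoryTheory CategoryTheory.Limits AlgebraicGeometry TopologicalSpace Opposite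

namespace K462.LMCoh

open Groth.Agent Groth.Agent.Fga Groth.Agent.VarietyA.EulerLES K462.Deg K462.CohLES

section gen

variable (k : Type u) [Field k] {X : Scheme.{u}} [X.Over (Spec (CommRingCat.of k))]
    [IsProper (X ↘ Spec (CommRingCat.of k))]

theorem subsingleton_iff {F : X.Modules} (hF : Coh.IsCoh F) (n : ℕ) :
    Subsingleton (Coh.HH X F n) ↔ Module.finrank k (Coh.HH X F n) = 0 := by
  have := HodgeSec.finite_HH' k hF n
  exact Module.finrank_zero_iff.symm

end gen

theorem kernel_ses {X : Scheme.{u}} {E G : X.Modules} (lam : E ⟶ G) [Epi lam] :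
    (ShortComplex.mk (kernel.ι lam) lam (kernel.condition lam)).ShortExact :=
  { exact := ShortComplex.exact_kernel lam
    mono_f := inferInstance
    epi_g := inferInstance }

theorem isFinLocFree_dual {X : Scheme.{u}} {F : X.Modules} (hF : FlatMod.IsFinLocFree F) :
    FlatMod.IsFinLocFree (RefHull.dual F) :=
  Dcoh.FinLocFree.isFinLocFree_of_iso (HomCmp.cmpIso F (Coh.structureModule X)).symm
    (CohqB.HomPost.isFinLocFree_homSheaf hF Sga67.TensorOps.isFinLocFree_structureModule)

theorem isCoh_of_isFinLocFree {X : Scheme.{u}} [IsLocallyNoetherian X] {F : X.Modules}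
    (hF : FlatMod.IsFinLocFree F) : Coh.IsCoh F := Groth.Agent.PerfA.CohSerre.isCoh_of_isFinLocFree hF

section lam

variable (k : Type u) [Field k] {X : Scheme.{u}} [X.Over (Spec (CommRingCat.of k))]
  [IsProper (X ↘ Spec (CommRingCat.of k))] {G : X.Modules} {e : ℕ} (lam : FlatMod.freeMod X e ⟶ G) [Epi lam]

omit [X.Over (Spec (CommRingCat.of k))] [IsProper (X ↘ Spec (CommRingCat.of k))] in
theorem h0_F (hlam : Function.Injective (Sheaf.H.map ((SheafOfModules.toSheaf _).map lam) 0)) :
    Subsingleton (Coh.HH X (kernel lam) 0) := subsingleton_zero_X₁ (kernel_ses lam) hlam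

include k in
theorem h1_F (hq : Module.finrank k (Coh.HH X (Coh.structureModule X) 1) = 0)
    (hlam : Function.Surjective (Sheaf.H.map ((SheafOfModules.toSheaf _).map lam) 0)) :
    Subsingleton (Coh.HH X (kernel lam) 1) := by
  have := SnapperTwist.isNoetherian_of_proper k X
  have hO : Coh.IsCoh (Coh.structureModule X) := HodgeSec.isCoh_of_isInvertible Fdesc.LocGen.isInvertible_structureModule
  have h1 : Subsingleton (Coh.HH X (Coh.structureModule X) 1) := (subsingleton_iff k hO 1).mpr hq
  have h2 := subsingleton_tensor_free (Sga67.TensorOps.isFinLocFree_structureModule (X := X)) 1 h1 e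
  refine subsingleton_X₁ (kernel_ses lam) 0 hlam ?_
  exact subsingleton_of_iso (Ega2.Tens.lunit _) 1

end lam

section K3

variable (k : Type u) [Field k] {X : Scheme.{u}} [X.Over (Spec (CommRingCat.of k))]
  [IsProper (X ↘ Spec (CommRingCat.of k))] [Smooth (X ↘ Spec (CommRingCat.of k))] [IsIntegral X]
  (hdim : topologicalKrullDim X = 2)
  (hK : Canon.IsTopDiff (X ↘ Spec (CommRingCat.of k)) 2 (Coh.structureModule X))

include hdim hK

theorem dual_vanish {F : X.Modules} (hF : FlatMod.IsFinLocFree F) (m p : ℕ) (h : m + p = 2)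
    (h0 : Subsingleton (Coh.HH X F p)) : Subsingleton (Coh.HH X (RefHull.dual F) m) := by
  have := SnapperTwist.isNoetherian_of_proper k X
  rw [subsingleton_iff k (isCoh_of_isFinLocFree (isFinLocFree_dual hF)), ← K3LF.finrank_dual k hdim hK hF m p h]
  exact (subsingleton_iff k (isCoh_of_isFinLocFree hF) p).mp h0

/-- `h^p(F^∨ ⊗ F) = h^m(Hom(F, F))` for `m + p = 2`. -/
theorem finrank_end {F : X.Modules} (hF : FlatMod.IsFinLocFree F) (m p : ℕ) (h : m + p = 2) :
    Module.finrank k (Coh.HH X (CohB1.tensorMod (RefHull.dual F) F) p) =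
      Module.finrank k (Coh.HH X (RefHull.homSh F F) m) := by
  have := SnapperTwist.isNoetherian_of_proper k X
  have hFc := isCoh_of_isFinLocFree hF
  have hb : IsIso (RefHull.bidualMap F) := HomMon.isIso_bidualMap hFc fun x =>
    (Divis.StalkMod.finite_free_stalk hFc.1 hF x).2
  rw [K3LF.finrank_dual k hdim hK (Sga67.LocBasis.isFinLocFree_tensorMod (isFinLocFree_dual hF) hF) m p h]
  exact (equivA k (HomMon.dualDualTensor F hb) m).finrank_eq

/-- `h^1(F^∨ ⊗ G) = h^0(Hom(F, F))` for `F` the kernel of `O^e → G`. -/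
theorem finrank_one (hq : Module.finrank k (Coh.HH X (Coh.structureModule X) 1) = 0) {G : X.Modules} {e : ℕ}
    (lam : FlatMod.freeMod X e ⟶ G) [Epi lam] (hF : FlatMod.IsFinLocFree (kernel lam))
    (hlam : Function.Bijective (Sheaf.H.map ((SheafOfModules.toSheaf _).map lam) 0)) :
    Module.finrank k (Coh.HH X (CohB1.tensorMod (RefHull.dual (kernel lam)) G) 1) =
      Module.finrank k (Coh.HH X (RefHull.homSh (kernel lam) (kernel lam)) 0) := by
  have hV := isFinLocFree_dual hF
  have h1 := dual_vanish k hdim hK hF 1 1 rfl (h1_F k lam hq hlam.surjective)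
  have h2 := dual_vanish k hdim hK hF 2 0 rfl (h0_F lam hlam.injective)
  have e1 := finrank_delta k (Sga67.TensorOps.tensor_shortExact hV (kernel_ses lam)) 1
    (subsingleton_tensor_free hV 1 h1 e) (subsingleton_tensor_free hV 2 h2 e)
  exact e1.trans (finrank_end k hdim hK hF 0 2 rfl)

end K3

end K462.LMCoh
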