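import Groth.Agent.Fga.HodgeForm
import Groth.Agent.Fga.EulerLEAdd
import Groth.Agent.Fga.SnapperTwist
import Groth.Agent.VarietyA.CurveFin
import Groth.Agent.S3233
import Groth.Agent.S1524

/-!
# Numerical kit on proper surfaces
-/

set_option autoImplicit false
universe u
open CategoryTheory CategoryTheory.Limits AlgebraicGeometry TopologicalSpace Opposite

namespace K462.Num

open Groth.Agent Groth.Agent.Fga Groth.Agent.Fga.PicMon Groth.Agent.Fga.HodgeIneq Groth.Agent.Fga.HodgeForm

section Basic

variable (k : Type u) [Field k] (X : Scheme.{u}) [X.Over (Spec (CommRingCat.of k))]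

theorem intNum_one (d : ℕ) (M F : X.Modules) : FGA.intNum k X d ![M] F =
    FGA.eulerCharLE k X F d - FGA.eulerCharLE k X (CohB1.tensorMod M F) d := by
  have h : (![M] : Fin 1 → X.Modules) = Fin.cons M (![] : Fin 0 → X.Modules) := by
    funext i; fin_cases i; rfl
  rw [h, intNum_cons, intNum_zero, intNum_zero]

theorem intNum_two (d : ℕ) (M N F : X.Modules) : FGA.intNum k X d ![M, N] F =
    FGA.intNum k X d ![N] F - FGA.intNum k X d ![N] (CohB1.tensorMod M F) := by
  have h : (![M, N] : Fin 2 → X.Modules) = Fin.cons M (![N] : Fin 1 → X.Modules) := by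
    funext i; fin_cases i <;> rfl
  rw [h, intNum_cons]

variable [IsProper (X ↘ Spec (CommRingCat.of k))]

/-- The Euler characteristic in degrees `≤ d` is the Euler characteristic. -/
theorem eulerLE_eq {d : ℕ} (hdim : topologicalKrullDim X ≤ d) (F : X.Modules) :
    FGA.eulerCharLE k X F d = Curv2.euler k X F := by
  have := SnapperTwist.isNoetherian_of_proper k X
  exact EulerLEAdd.eulerCharLE_eq_euler k X d hdim F

/-- `χ` is additive. -/
theorem isAdd_euler : ChiBasic.IsAdd (fun F : X.Modules => Curv2.euler k X F) :=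
  fun S hS h1 h2 h3 => Groth.Agent.S1524.result k X S hS h1 h2 h3

theorem isAdd_eulerLE {d : ℕ} (hdim : topologicalKrullDim X ≤ d) :
    ChiBasic.IsAdd (fun F : X.Modules => FGA.eulerCharLE k X F d) := by
  intro S hS h1 h2 h3
  have := isAdd_euler k X S hS h1 h2 h3
  simp only [eulerLE_eq k X hdim]
  exact this

/-- `F ↦ (M · F)` is additive. -/
theorem isAdd_intNum_one {d : ℕ} (hdim : topologicalKrullDim X ≤ d) {M : X.Modules} (hM : PicF.IsInvertible M) :
    ChiBasic.IsAdd (fun F : X.Modules => FGA.intNum k X d ![M] F) := by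
  intro S hS h1 h2 h3
  have e1 := isAdd_eulerLE k X hdim S hS h1 h2 h3
  have e2 := SnapperTwist.isAdd_twist (isAdd_eulerLE k X hdim) hM S hS h1 h2 h3
  simp only [intNum_one] at e1 e2 ⊢
  linarith

end Basic

section Supp

variable {X : Scheme.{u}}

/-- The support of a coherent module vanishing at the generic point of an integral surface has dimension `≤ 1`. -/
theorem dim_support_lt [IsIntegral X] {d : ℕ} (hdim : topologicalKrullDim X ≤ d) {F : X.Modules}
    (hF : Coh.IsCoh F) (hη : genericPoint X ∉ CohB1.support F) :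
    topologicalKrullDim (CohB1.support F) < (d : WithBot ℕ∞) := by
  have hcl : IsClosed (CohB1.support F) := Groth.Agent.S0020.result X _ hF.2
  have hne : CohB1.support F ≠ Set.univ := by
    intro h
    rw [h] at hη
    exact hη (Set.mem_univ _)
  have huniv : topologicalKrullDim (Set.univ : Set X) < ((d + 1 : ℕ) : WithBot ℕ∞) := by
    have h1 : topologicalKrullDim (Set.univ : Set X) ≤ topologicalKrullDim X :=
      Topology.IsInducing.subtypeVal.topologicalKrullDim_le
    exact lt_of_le_of_lt (h1.trans hdim) (by exact_mod_cast Nat.lt_succ_self d)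
  exact DimLt.topologicalKrullDim_lt (A := Set.univ) (irreducibleSpace_def X |>.mp inferInstance) hcl
    (Set.subset_univ _) hne huniv

theorem dim_cases {A : Set X} (hne : A.Nonempty) (h : topologicalKrullDim A < ((2 : ℕ) : WithBot ℕ∞)) :
    topologicalKrullDim A = ((0 : ℕ) : WithBot ℕ∞) ∨ topologicalKrullDim A = ((1 : ℕ) : WithBot ℕ∞) := by
  have h0 : ((0 : ℕ) : WithBot ℕ∞) ≤ topologicalKrullDim A := by
    have : Nonempty A := hne.to_subtype
    have : Nonempty (IrreducibleCloseds A) :=
      ⟨⟨closure {this.some}, isIrreducible_singleton.closure, isClosed_closure⟩⟩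
    exact_mod_cast Order.krullDim_nonneg
  generalize topologicalKrullDim A = c at *
  induction c using WithBot.recBotCoe with
  | bot => simp at h0
  | coe c =>
    induction c using ENat.recTopCoe with
    | top =>
      exfalso
      have : ((2 : ℕ) : WithBot ℕ∞) < ((⊤ : ℕ∞) : WithBot ℕ∞) :=
        WithBot.coe_lt_coe.mpr (ENat.natCast_lt_top 2)
      exact absurd (h.trans this) (lt_irrefl _)
    | coe n =>
      have hn : n < 2 := ENat.natCast_lt_natCast.mp (WithBot.coe_lt_coe.mp h)
      interval_cases n
      · left; rfl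
      · right; rfl

end Supp

section NumTriv

variable (k : Type u) [Field k] (X : Scheme.{u}) [X.Over (Spec (CommRingCat.of k))]
  [IsProper (X ↘ Spec (CommRingCat.of k))]

/-- A coherent module supported in dimension `≤ 1` with `χ = 0` and `H · F = 0`, `H` ample, is zero. -/
theorem support_eq_empty (hdim : topologicalKrullDim X ≤ (2 : ℕ)) {H H' : X.Modules} (hH : CohB1.IsAmple H)
    (hHH' : Nonempty (CohB1.tensorMod H H' ≅ Coh.structureModule X)) {F : X.Modules} (hF : Coh.IsCoh F)
    (hd : topologicalKrullDim (CohB1.support F) < ((2 : ℕ) : WithBot ℕ∞))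
    (h0 : FGA.eulerCharLE k X F 2 = 0) (h1 : FGA.intNum k X 2 ![H'] F = 0) : CohB1.support F = ∅ := by
  by_contra hne
  rcases dim_cases (Set.nonempty_iff_ne_empty.mpr hne) hd with h | h
  · have := Groth.Agent.S3233.result k X 2 hdim (r := 0) Fin.elim0 Fin.elim0 (fun i => i.elim0)
      (fun i => i.elim0) F hF h
    rw [intNum_zero, h0] at this
    exact lt_irrefl _ this
  · have := Groth.Agent.S3233.result k X 2 hdim (r := 1) ![H] ![H'] (fun i => by fin_cases i; exact hH)
      (fun i => by fin_cases i; exact hHH') F hF h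
    rw [h1] at this
    exact lt_irrefl _ this

omit [X.Over (Spec (CommRingCat.of k))] [IsProper (X ↘ Spec (CommRingCat.of k))] in
theorem notMem_support_of_isTors {X : Scheme.{u}} [IsIntegral X] {T : X.Modules} (hT : CurvesB.RankOne.IsTors T) :
    genericPoint X ∉ CohB1.support T := by
  rw [CohqB.DevSupport.not_mem_support_iff]
  have key : ∀ t : T.presheaf.stalk (genericPoint X), t = 0 := by
    intro t
    obtain ⟨V, hxV, -, s, rfl⟩ := VarietyB.ExactLoc.exists_germ_le T (U := ⊤) (x := genericPoint X) trivial t
    obtain ⟨W, hWV, ⟨w, hw⟩, h0⟩ := hT V s ⟨_, hxV⟩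
    have hxW : genericPoint X ∈ W := (genericPoint_specializes w).mem_open W.2 hw
    rw [← VarietyB.ExactLoc.germ_res T hWV hxW]
    exact (congrArg _ h0).trans (map_zero _)
  exact ⟨fun a b => (key a).trans (key b).symm⟩

omit [X.Over (Spec (CommRingCat.of k))] [IsProper (X ↘ Spec (CommRingCat.of k))] in
/-- The exact sequence of a nonzero section of an invertible module. -/
theorem section_seq {X : Scheme.{u}} [IsIntegral X] {L : X.Modules} (hL : PicF.IsInvertible L)
    (s : Coh.structureModule X ⟶ L) (hs : s ≠ 0) :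
    (ShortComplex.mk s (cokernel.π s) (cokernel.condition s)).ShortExact ∧
      genericPoint X ∉ CohB1.support (cokernel s) := by
  have hLl := CurvesB.InvEmb.locEmb_of_isInvertible hL
  have hmono : Mono s := CurvesB.RankOne.mono_of_ne_zero hLl s hs
  exact ⟨{ exact := ShortComplex.exact_cokernel s
           mono_f := hmono
           epi_g := inferInstance },
    notMem_support_of_isTors (CurvesB.RankOne.isTors_of_epi hLl s hs (cokernel.π s) (cokernel.condition s))⟩

/-- A nonzero section of an invertible module with `χ(L) = χ(O)` and `(H · L) = 0` is an isomorphism. -/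
theorem isIso_of_section [IsIntegral X] (hdim : topologicalKrullDim X ≤ (2 : ℕ)) {H H' : X.Modules}
    (hH : CohB1.IsAmple H) (hHH' : Nonempty (CohB1.tensorMod H H' ≅ Coh.structureModule X))
    (hH' : PicF.IsInvertible H') {L : X.Modules} (hL : PicF.IsInvertible L)
    (hχ : FGA.eulerCharLE k X L 2 = FGA.eulerCharLE k X (Coh.structureModule X) 2)
    (hLH : FGA.intNum k X 2 ![L, H'] (Coh.structureModule X) = 0)
    (s : Coh.structureModule X ⟶ L) (hs : s ≠ 0) : IsIso s := by
  have := SnapperTwist.isNoetherian_of_proper k X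
  obtain ⟨hS, hη⟩ := section_seq hL s hs
  have hO : Coh.IsCoh (Coh.structureModule X) := HodgeSec.isCoh_of_isInvertible Fdesc.LocGen.isInvertible_structureModule
  have hLc : Coh.IsCoh L := HodgeSec.isCoh_of_isInvertible hL
  have hC : Coh.IsCoh (cokernel s) := Sga67.CohBasic.isCoh_cokernel s hO.1 hLc
  have e1 := isAdd_eulerLE k X hdim _ hS hO hLc hC
  have e2 := isAdd_intNum_one k X hdim hH' _ hS hO hLc hC
  dsimp only at e1 e2
  have e3 := intNum_two k X 2 L H' (Coh.structureModule X)
  have e4 : FGA.intNum k X 2 ![H'] (CohB1.tensorMod L (Coh.structureModule X)) = FGA.intNum k X 2 ![H'] L :=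
    intNum_iso k X 2 _ (Ega2.Tens.runit L)
  have hemp : CohB1.support (cokernel s) = ∅ :=
    support_eq_empty k X hdim hH hHH' hC (dim_support_lt hdim hC hη) (by linarith) (by linarith)
  have hz : IsZero (cokernel s) := CohqB.DevSupport.isZero_of_support_eq_empty hemp
  have hepi : Epi s := Preadditive.epi_of_isZero_cokernel s hz
  have hmono : Mono s := hS.mono_f
  exact isIso_of_mono_of_epi s

end NumTriv

end K462.Num
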