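import Groth.Agent.SDiv.K476.HomSh1
import Groth.Agent.Htor.H255.HomStalk
import Groth.Agent.Sga2.PnHomAdj

/-!
# Comparison of the two models of the sheaf Hom

`RefHull.homSh F G` (families of stalk maps), `CohqB.HomSheaf.homSheaf F G` (families of maps of
sections) and `(DCoh.sheafHom F).obj G` (right adjoint of the tensor product) are isomorphic.
-/

set_option autoImplicit false
universe u
open CategoryTheory CategoryTheory.Limits AlgebraicGeometry TopologicalSpace Opposite

noncomputable section

namespace K462.HomCmp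

open Groth.Agent.CohqB Groth.Agent.Htor.H255 K476.HomSh1

variable {X : Scheme.{u}} {F G : X.Modules}

/-- A section of `homSh F G` as a family of maps of sections. -/
def cmpSec {U : X.Opens} (g : Γ(RefHull.homSh F G, U)) : Γ(HomSheaf.homSheaf F G, U) :=
  HomSheaf.mkSec (fun _ hV => secMap g hV) (fun _ _ hV h m => secMap_res g hV h m)

theorem comp_cmpSec {U : X.Opens} (g : Γ(RefHull.homSh F G, U)) (V : X.Opens) (hV : V ≤ U) :
    HomSheaf.comp (cmpSec g) V hV = secMap g hV := rfl

theorem cmpSec_add {U : X.Opens} (g h : Γ(RefHull.homSh F G, U)) :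
    cmpSec (g + h) = cmpSec g + cmpSec h := by
  refine HomSheaf.sec_ext (fun V hV m => ?_)
  rw [HomSheaf.comp_add, comp_cmpSec, comp_cmpSec, comp_cmpSec, secMap_add]

theorem cmpSec_smul {U : X.Opens} (r : Γ(X, U)) (g : Γ(RefHull.homSh F G, U)) :
    cmpSec (r • g) = r • cmpSec g := by
  refine HomSheaf.sec_ext (fun V hV m => ?_)
  rw [HomSheaf.comp_smul, comp_cmpSec, comp_cmpSec, LinearMap.smul_apply]
  refine sec_ext G (fun x hx => ?_)
  rw [germ_secMap, Mero.germ_smul, germ_secMap, TopCat.Presheaf.germ_res_apply]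
  rfl

/-- Comparison morphism. -/
def cmpHom (F G : X.Modules) : RefHull.homSh F G ⟶ HomSheaf.homSheaf F G :=
  ⟨PresheafOfModules.homMk (M₁ := (RefHull.homSh F G).val) (M₂ := (HomSheaf.homSheaf F G).val)
    { app := fun U => AddCommGrpCat.ofHom
        (AddMonoidHom.mk' (fun g : Γ(RefHull.homSh F G, U.unop) => cmpSec g) cmpSec_add)
      naturality := by
        intro U V i
        ext g
        refine HomSheaf.sec_ext (fun W hW m => ?_)
        exact secMap_res_left g i.unop.le hW m }
    (fun U r g => cmpSec_smul (U := U.unop) r g)⟩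

theorem cmpHom_app {U : X.Opens} (g : Γ(RefHull.homSh F G, U)) : (cmpHom F G).app U g = cmpSec g := rfl

theorem cmpSec_injective {U : X.Opens} :
    Function.Injective (cmpSec : Γ(RefHull.homSh F G, U) → Γ(HomSheaf.homSheaf F G, U)) := by
  intro g h e
  refine homSec_ext_secMap (fun V hV m => ?_)
  rw [← comp_cmpSec, ← comp_cmpSec, e]

theorem cmpSec_surjective {U : X.Opens} :
    Function.Surjective (cmpSec : Γ(RefHull.homSh F G, U) → Γ(HomSheaf.homSheaf F G, U)) := by
  intro s
  let g : Γ(RefHull.homSh F G, U) :=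
    ⟨fun x => HomStalk.secStalk x.1 x.2 s, fun V i m x =>
      ⟨V, x.2, 𝟙 V, HomSheaf.comp s V i.le m, fun y =>
        HomStalk.secStalk_germ_le y.1 (i.le y.2) s V y.2 i.le m⟩⟩
  refine ⟨g, HomSheaf.sec_ext (fun V hV m => ?_)⟩
  rw [comp_cmpSec]
  refine sec_ext G (fun x hx => ?_)
  rw [germ_secMap]
  exact HomStalk.secStalk_germ_le x (hV hx) s V hx hV m

instance isIso_cmpHom (F G : X.Modules) : IsIso (cmpHom F G) := by
  rw [Scheme.Modules.Hom.isIso_iff_isIso_app]
  intro U
  rw [ConcreteCategory.isIso_iff_bijective]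
  exact ⟨cmpSec_injective, cmpSec_surjective⟩

/-- The two explicit models of the sheaf Hom agree. -/
def cmpIso (F G : X.Modules) : RefHull.homSh F G ≅ HomSheaf.homSheaf F G := asIso (cmpHom F G)

/-- `homSh F G` is the value of the right adjoint of the tensor product. -/
def sheafHomIso (F G : X.Modules) [DCoh.HasSheafHom F] :
    RefHull.homSh F G ≅ (DCoh.sheafHom F).obj G :=
  cmpIso F G ≪≫ ((Groth.Agent.Sga2.PnHomAdj.sheafHomIso F).app G).symm

end K462.HomCmp
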