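import Groth.Agent.Surf.K462.HomCmp
import Groth.Agent.Krr.H463.HomTensor
import Groth.Agent.VarietyB.TensCoh

/-!
# `Hom(E, O) ⊗ N ≅ Hom(E, N)` for `E` finite locally free and any `N`; tensor-hom adjunction for the sheaf Hom
-/

set_option autoImplicit false
universe u
open CategoryTheory CategoryTheory.Limits AlgebraicGeometry TopologicalSpace Opposite
open scoped TensorProduct

noncomputable section

namespace K462.HomTens

open Groth.Agent Groth.Agent.Sga67.Sec Groth.Agent.Sga67.LocBasis Groth.Agent.Krr.H463.HomBasis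
  Groth.Agent.Krr.H463.HomTensor
open Groth.Agent.CohqB.HomSheaf (homSheaf)

variable {X : Scheme.{u}} {E N : X.Modules}

theorem isBasis_of_isLocBasis {M : X.Modules} {U : X.Opens} {n : ℕ} {e : Fin n → Sec M U}
    (he : IsLocBasis e) : VarietyB.TensLoc.IsBasis M U e := he

theorem bijective_kap_of_basis (N : X.Modules)
    (g : CohB1.tensorMod (homSheaf E (Coh.structureModule X)) N ⟶ homSheaf E N)
    (hg : ∀ (U : X.Opens) (f : Sec (homSheaf E (Coh.structureModule X)) U) (d : Sec N U),
      appS g U (tau _ _ U (f ⊗ₜ[Γ(X, U)] d)) = mulS f d) {V : X.Opens} {n : ℕ} {e : Fin n → Sec E V}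
    (he : IsLocBasis e) : Function.Bijective (appS g V) := by
  have h1 := isLocBasis_hsec (N := Coh.structureModule X) he (isLocBasis_one' X V)
  have h2 := VarietyB.TensLoc.tcomb_bijective (isBasis_of_isLocBasis h1) N (le_refl V)
  have h3 := ev_bijective (N := N) he (le_refl V)
  have h4 : (ev N e (le_refl V)) ∘ (appS g V) ∘
      (VarietyB.TensLoc.tcomb (hsec (N := Coh.structureModule X) he (one X V)) N (le_refl V)) = id := by
    funext s
    rw [Function.comp_apply, Function.comp_apply, VarietyB.TensLoc.tcomb_apply]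
    have h5 : ∀ i, appS g V (VarietyB.TensLoc.tmul (VarietyB.TensLoc.res (homSheaf E (Coh.structureModule X)) (le_refl V)
        (hsec (N := Coh.structureModule X) he (one X V) i)) (s i)) = hsec he (s i) i := by
      intro i
      rw [VarietyB.TensLoc.res_self, ← ev_mulS_hsec he (s i) i]
      exact hg V _ _
    have h6 : appS g V (∑ i, VarietyB.TensLoc.tmul (VarietyB.TensLoc.res (homSheaf E (Coh.structureModule X)) (le_refl V)
        (hsec (N := Coh.structureModule X) he (one X V) i)) (s i)) = ∑ i, hsec he (s i) i := by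
      rw [map_sum]
      exact Finset.sum_congr rfl fun i _ => h5 i
    refine (congrArg (ev N e (le_refl V)) h6).trans ?_
    rw [map_sum]
    simp_rw [ev_hsec]
    exact Finset.univ_sum_single s
  have h7 : Function.Bijective ((ev N e (le_refl V)) ∘ (appS g V) ∘
      (VarietyB.TensLoc.tcomb (hsec (N := Coh.structureModule X) he (one X V)) N (le_refl V))) := by
    rw [h4]; exact Function.bijective_id
  have h8 : Function.Bijective ((appS g V) ∘
      (VarietyB.TensLoc.tcomb (hsec (N := Coh.structureModule X) he (one X V)) N (le_refl V))) :=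
    (Function.Bijective.of_comp_iff' h3 _).mp h7
  exact (Function.Bijective.of_comp_iff _ h2).mp h8

/-- A morphism which is `f ⊗ d ↦ f(-) d` is an isomorphism if `E` is finite locally free. -/
theorem isIso_kap (hE : FlatMod.IsFinLocFree E) (N : X.Modules)
    (g : CohB1.tensorMod (homSheaf E (Coh.structureModule X)) N ⟶ homSheaf E N)
    (hg : ∀ (U : X.Opens) (f : Sec (homSheaf E (Coh.structureModule X)) U) (d : Sec N U),
      appS g U (tau _ _ U (f ⊗ₜ[Γ(X, U)] d)) = mulS f d) : IsIso g := by
  refine isIso_of_bijective g ?_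
  intro x U hxU
  obtain ⟨U₁, n, hx₁, e₁, he₁⟩ := (isFinLocFree_iff _).mp hE x
  exact ⟨U ⊓ U₁, inf_le_left, ⟨hxU, hx₁⟩,
    bijective_kap_of_basis N g hg (he₁.restrict (inf_le_right : U ⊓ U₁ ≤ U₁))⟩

/-- `Hom(E, O) ⊗ N ≅ Hom(E, N)` for `E` finite locally free. -/
def kapIso (hE : FlatMod.IsFinLocFree E) (N : X.Modules) :
    CohB1.tensorMod (homSheaf E (Coh.structureModule X)) N ≅ homSheaf E N :=
  haveI := isIso_kap hE N _ (exists_kap E N).choose_spec
  asIso (exists_kap E N).choose

end K462.HomTens
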