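import Groth.Agent.Surf.K462.Num
import Groth.Agent.Surf.K455.RR
import Groth.Agent.Grpsch.PicGrp

/-!
# Invertible modules on a surface with trivial canonical sheaf (duality as a hypothesis)
-/

set_option autoImplicit false
universe u
open CategoryTheory CategoryTheory.Limits AlgebraicGeometry TopologicalSpace Opposite

namespace K462.K3Abs

open Groth.Agent Groth.Agent.Fga Groth.Agent.Fga.PicMon

variable (k : Type u) [Field k] (X : Scheme.{u}) [X.Over (Spec (CommRingCat.of k))]

theorem finrank_congr {M N : X.Modules} (e : M ≅ N) (i : ℕ) :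
    Module.finrank k (Coh.HH X M i) = Module.finrank k (Coh.HH X N i) :=
  (hmapEquiv k X e i).finrank_eq

/-- `h^p(L) = h^{2-p}(L^{-1})`. -/
def InvDual : Prop := ∀ L L' : X.Modules, Nonempty (CohB1.tensorMod L L' ≅ Coh.structureModule X) →
  ∀ p q : ℕ, q + p = 2 → Module.finrank k (Coh.HH X L p) = Module.finrank k (Coh.HH X L' q)

variable {k X}

theorem InvDual.euler (hD : InvDual k X) {L L' : X.Modules}
    (e : Nonempty (CohB1.tensorMod L L' ≅ Coh.structureModule X)) :
    FGA.eulerCharLE k X L 2 = FGA.eulerCharLE k X L' 2 := by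
  have h0 := hD L L' e 0 2 rfl
  have h1 := hD L L' e 1 1 rfl
  have h2 := hD L L' e 2 0 rfl
  unfold FGA.eulerCharLE
  simp only [Finset.sum_range_succ, Finset.sum_range_zero, h0, h1, h2]
  ring

variable [IsProper (X ↘ Spec (CommRingCat.of k))] [IsIntegral X]

theorem InvDual.unit_two [IsAlgClosed k] (hD : InvDual k X) :
    Module.finrank k (Coh.HH X (Coh.structureModule X) 2) = 1 := by
  rw [hD _ _ ⟨Ega2.Tens.runit (Coh.structureModule X)⟩ 2 0 rfl]
  exact VarietyA.CurveFin.finrank_h0_structure k X

theorem InvDual.euler_unit [IsAlgClosed k] (hD : InvDual k X)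
    (hq : Module.finrank k (Coh.HH X (Coh.structureModule X) 1) = 0) :
    FGA.eulerCharLE k X (Coh.structureModule X) 2 = 2 := by
  have h0 := VarietyA.CurveFin.finrank_h0_structure k X
  have h2 := hD.unit_two
  unfold FGA.eulerCharLE
  simp only [Finset.sum_range_succ, Finset.sum_range_zero, h0, h2, hq]
  norm_num

/-- A numerically trivial invertible module on a K3 surface is trivial. -/
theorem InvDual.iso_of_numTriv [IsAlgClosed k] (hD : InvDual k X) (hd : topologicalKrullDim X ≤ (2 : ℕ))
    (hq : Module.finrank k (Coh.HH X (Coh.structureModule X) 1) = 0)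
    (H : X.Modules) (hHa : CohB1.IsAmple H) (L : X.Modules) (hL : PicF.IsInvertible L)
    (hnum : ∀ M : X.Modules, PicF.IsInvertible M →
      FGA.intNum k X 2 ![L, M] (Coh.structureModule X) = 0) :
    Nonempty (L ≅ Coh.structureModule X) := by
  obtain ⟨M, hM, hLM⟩ := Grpsch.PicGrp.exists_inverse hL
  obtain ⟨H', hH', hHH'⟩ := Grpsch.PicGrp.exists_inverse hHa.1
  have hO := hD.euler_unit hq
  have h1 := hD.euler hLM
  have h2 := hnum M hM
  rw [K455.RR.intNum_two, euler_iso k X hLM.some 2] at h2
  have hLH := hnum H' hH'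
  have hMH : FGA.intNum k X 2 ![M, H'] (Coh.structureModule X) = 0 := by
    rw [K455.RR.intNum_inv_left k hd L M H' hL hM ((mc_eq_iff _ _).2 hLM) hH', hLH, neg_zero]
  have hle := HodgeSec.euler_le k L
  have h3 := hD L M hLM 2 0 rfl
  by_cases h0 : 0 < Module.finrank k (Coh.HH X L 0)
  · obtain ⟨s, hs⟩ := HodgeSec.exists_section k h0
    have := Num.isIso_of_section k X hd hHa hHH' hH' hL (by linarith) hLH s hs
    exact ⟨(asIso s).symm⟩
  · have h0' : 0 < Module.finrank k (Coh.HH X M 0) := by omega
    obtain ⟨s, hs⟩ := HodgeSec.exists_section k h0'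
    have := Num.isIso_of_section k X hd hHa hHH' hH' hM (by linarith) hMH s hs
    obtain ⟨e⟩ := hLM
    refine (mc_eq_iff _ _).1 ?_
    have e1 : mc M = 1 := mc_eq (asIso s).symm
    have e2 : mc L * mc M = 1 := mc_eq e
    rw [e1, mul_one] at e2
    exact e2

end K462.K3Abs
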